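import Cfsg.Agent.Lib.Helper28.BG12b
import Cfsg.Agent.Lib.Helper14.BG11A
import Cfsg.Agent.S1324
import Cfsg.Agent.S1451
import Cfsg.Agent.S1452
import Cfsg.Agent.S1408

set_option autoImplicit false

namespace Cfsg.Agent.Lib.Helper74.BG124

open Subgroup Cfsg.Agent.Lib.Helper30 Cfsg.Agent.Lib.Helper2 Cfsg.Agent.Lib.Helper68

universe u

variable {G : Type u} [Group G] [Finite G]

theorem P7 (hG : Cfsg.IsMinSimpleOddOrder G) {H : Subgroup G} (hH : IsCoatom H)
    {R A : Subgroup G} (hR : R ≤ ⁅H, H⁆) (hA : A ≤ ⁅H, H⁆)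
    (hcop : (Nat.card R).Coprime (Nat.card A)) : ⁅R, A⁆ ≤ Cfsg.alphaCore H := by
  have hnil := (Cfsg.Agent.S1405.result hG H hH).2.2.2.2
  rw [commutator_le]
  intro b hb a ha
  have haL : a ∈ ⁅H, H⁆ := hA ha
  have hbL : b ∈ ⁅H, H⁆ := hR hb
  rw [← map_subtype_commutator] at haL hbL
  obtain ⟨a', ha', rfl⟩ := haL
  obtain ⟨b', hb', rfl⟩ := hbL
  replace ha : (a' : G) ∈ A := ha
  replace hb : (b' : G) ∈ R := hb
  set K := Cfsg.piCore (Cfsg.alpha H) ↥H with hK
  set N := (commutator ↥H).map (QuotientGroup.mk' K) with hN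
  have hoa : orderOf (a' : G) ∣ Nat.card A := by
    have := orderOf_dvd_natCard (⟨_, ha⟩ : ↥A)
    rwa [Subgroup.orderOf_mk] at this
  have hob : orderOf (b' : G) ∣ Nat.card R := by
    have := orderOf_dvd_natCard (⟨_, hb⟩ : ↥R)
    rwa [Subgroup.orderOf_mk] at this
  have hcop' : (orderOf (⟨QuotientGroup.mk' K b', mem_map_of_mem _ hb'⟩ : ↥N)).Coprime
      (orderOf (⟨QuotientGroup.mk' K a', mem_map_of_mem _ ha'⟩ : ↥N)) := by
    have e1 : orderOf (⟨QuotientGroup.mk' K a', mem_map_of_mem _ ha'⟩ : ↥N) ∣ Nat.card A := by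
      refine dvd_trans ?_ hoa
      rw [Subgroup.orderOf_mk, Subgroup.orderOf_coe]
      exact orderOf_map_dvd _ a'
    have e2 : orderOf (⟨QuotientGroup.mk' K b', mem_map_of_mem _ hb'⟩ : ↥N) ∣ Nat.card R := by
      refine dvd_trans ?_ hob
      rw [Subgroup.orderOf_mk, Subgroup.orderOf_coe]
      exact orderOf_map_dvd _ b'
    exact Nat.Coprime.coprime_dvd_left e2 (Nat.Coprime.coprime_dvd_right e1 hcop)
  have hcomm := Cfsg.Agent.Lib.Helper31.commute_of_coprime_orderOf ↥N _ _ hcop'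
  have h1 : QuotientGroup.mk' K b' * QuotientGroup.mk' K a' =
      QuotientGroup.mk' K a' * QuotientGroup.mk' K b' := congrArg Subtype.val hcomm.eq
  have h2 : b' * a' * b'⁻¹ * a'⁻¹ ∈ K := by
    rw [← QuotientGroup.eq_one_iff]
    change QuotientGroup.mk' K (b' * a' * b'⁻¹ * a'⁻¹) = 1
    rw [map_mul, map_mul, map_mul, h1, map_inv, map_inv]
    group
  exact ⟨_, h2, by simp [commutatorElement_def]⟩

end Cfsg.Agent.Lib.Helper74.BG124
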