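import Cfsg.Agent.Lib.Helper74.BG1311A

/-!
Bender-Glauberman 13.10 + 13.11 (`P11` of `Helper27.BG14`): steps 5a, 5b, 5c of the paper proof.
-/

set_option autoImplicit false
set_option linter.style.haveILetI false
set_option linter.unusedSectionVars false

namespace Cfsg.Agent.Lib.Helper74.BG1311

open Subgroup Cfsg.Agent.Lib.Helper30 Cfsg.Agent.Lib.Helper2 Cfsg.Agent.Lib.Helper68
  Cfsg.Agent.Lib.Helper28.BG12
open Cfsg.Agent.Lib.Helper58.BG13 (lemmaK exists_comm_pgroup eq_of_le_cyclic_of_card_eq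
  isPGroup_of_card_prime ne_bot_of_card_prime texts0)
open Cfsg.Agent.Lib.Helper27.BG14 (Pb2 P11)
open scoped commutatorElement

universe u

variable {G : Type u} [Group G]

theorem tau1_ne_tau3 {M : Subgroup G} {t p : ℕ} (ht : t ∈ Cfsg.tau1 M) (hp : p ∈ Cfsg.tau3 M) :
    p ≠ t := by
  rintro rfl
  exact ht.2.2.2.1 hp.2.2.1

theorem not_alpha_of_rank_one {M : Subgroup G} {p : ℕ} (hp : p.Prime) (h : Cfsg.PRankLE p 1 M) :
    p ∉ Cfsg.alpha M := by
  intro h1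
  apply h1.2
  intro A hA hAe
  exact (h A hA hAe).trans (Nat.pow_le_pow_right hp.pos (by norm_num))

theorem dvd_card_of_isPGroup_ne_bot' [Finite G] {l : ℕ} [hl : Fact l.Prime] {Y : Subgroup G}
    (hY : IsPGroup l Y) (hY1 : Y ≠ ⊥) : l ∣ Nat.card Y := by
  obtain ⟨n, hn⟩ := IsPGroup.iff_card.1 hY
  rw [hn]
  rcases n with _ | n
  · rw [pow_zero] at hn
    exact absurd (Subgroup.card_eq_one.mp hn) hY1
  · exact dvd_pow_self l (Nat.succ_ne_zero n)

namespace Hyp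

variable [Finite G] {M E X H : Subgroup G} {p : ℕ}

/-- if `D ≤ C(E)` then `D ∩ M_α ≠ 1`. -/
theorem alphaCore_inf_D_ne_bot (hG : Cfsg.IsMinSimpleOddOrder G) (pb2 : Pb2 G)
    (h : Hyp M E X H p)
    (hDE : Cfsg.sigmaCore M ⊓ centralizer (X : Set G) ≤ centralizer (E : Set G)) :
    Cfsg.alphaCore M ⊓ (Cfsg.sigmaCore M ⊓ centralizer (X : Set G)) ≠ ⊥ := by
  intro hbot
  obtain ⟨Y, hYD, hYp⟩ := Cfsg.Agent.Lib.Helper27.BG14.exists_prime_card_le h.hD
  have hl : Fact (Nat.card Y).Prime := ⟨hYp⟩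
  have hYl : IsPGroup (Nat.card Y) Y := isPGroup_of_card_prime rfl
  have hY1 : Y ≠ ⊥ := ne_bot_of_card_prime rfl
  have hYM : Y ≤ M := (hYD.trans inf_le_left).trans (sigmaCore_le M)
  have hlM : Nat.card Y ∈ Cfsg.sigma M :=
    (sigmaCore_hall hG h.hM).2.1 _ hYp (card_dvd_of_le (hYD.trans inf_le_left))
  have hlα : Nat.card Y ∉ Cfsg.alpha M := by
    intro hα
    apply hY1
    rw [eq_bot_iff, ← hbot]
    exact le_inf (Cfsg.Agent.Lib.Helper14.BG12.isPGroup_le_alphaCore hG h.hM hα hYM hYl) hYD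
  obtain ⟨S, hS, hSD⟩ := h.exists_sylow_le_D hG hlM (fun hb => hlα hb.1)
  obtain ⟨P, hP⟩ := hS.exists_sylow
  have h1 : Y ≤ ⁅Cfsg.sigmaCore M, Cfsg.sigmaCore M⁆ :=
    (le_inf (hYD.trans inf_le_left) (hYD.trans hDE)).trans
      (Cfsg.Agent.S1426.result hG M h.hM E h.hE).1
  have h2 := (Cfsg.Agent.S1423.result hG M h.hM _ hlM Y hYM rfl P (Or.inr h1)).2.1
  rw [hP] at h2
  exact h.ne hG pb2 (uniq_eq h2 h.hM (hS.le.trans (sigmaCore_le M)) h.hH (hSD.trans h.D_le_H))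

/-- `D` centralizes `E` as soon as it centralizes one subgroup of order `t ∈ τ₁(M)` of `E`. -/
theorem D_le_centralizer_E_of (hG : Cfsg.IsMinSimpleOddOrder G) (pb2 : Pb2 G)
    (h : Hyp M E X H p) {P' : Subgroup G} {t : ℕ} (ht : t ∈ Cfsg.tau1 M) (hPE : P' ≤ E)
    (hP : Nat.card P' = t)
    (hDP : Cfsg.sigmaCore M ⊓ centralizer (X : Set G) ≤ centralizer (P' : Set G)) :
    Cfsg.sigmaCore M ⊓ centralizer (X : Set G) ≤ centralizer (E : Set G) := by
  obtain ⟨E1, hE1, hPE1⟩ := exists_hall_ge hG h.hM h.hE (Cfsg.tau1 M) hPE (by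
    intro q hq hd
    rw [prime_dvd_card_prime ht.1 hP hq hd]
    exact ht)
  obtain ⟨E3, hE3, -⟩ := exists_hall_ge hG h.hM h.hE (Cfsg.tau3 M) (bot_le : (⊥ : Subgroup G) ≤ E)
    (by
      intro q hq hd
      rw [Subgroup.card_bot] at hd
      exact absurd (Nat.dvd_one.mp hd) hq.one_lt.ne')
  have hc1 : IsCyclic E1 := (Cfsg.Agent.S1415.result hG M h.hM E h.hE).2.1 E1 hE1
  have hE3' : E3 ≤ ⁅E, E⁆ := ((Cfsg.Agent.S1415.result hG M h.hM E h.hE).2.2 E3 hE3).2.1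
  have hD1 : Cfsg.sigmaCore M ⊓ centralizer (X : Set G) ≤ centralizer (E1 : Set G) := by
    by_contra hcon
    obtain ⟨x, hx, hxp, hxc⟩ := Cfsg.Agent.Lib.Helper2.BG139.exists_prime_not_centralizing
      (texts0 hG) (t27 hG) h.hM h.hE hE1 inf_le_left hcon
    apply hxc
    have hR : zpowers x ≤ E ⊓ centralizer (P' : Set G) := by
      refine le_inf (zpowers_le.mpr (hE1.1 hx)) ?_
      rw [zpowers_le, mem_centralizer_iff]
      intro y hy
      have := comm_of_isCyclic hc1 ⟨y, hPE1 hy⟩ ⟨x, hx⟩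
      exact congrArg Subtype.val this
    have h3 := Cfsg.Agent.S1428.result hG M h.hM E h.hE t ht P' hPE hP (zpowers x) hR
      (by rw [Nat.card_zpowers]; exact hxp)
    have h4 := (le_inf inf_le_left hDP).trans h3
    rw [← Cfsg.Agent.Lib.Helper27.BG14.centralizer_zpowers_eq]
    exact h4.trans inf_le_right
  have hD3 : Cfsg.sigmaCore M ⊓ centralizer (X : Set G) ≤ centralizer (E3 : Set G) :=
    (h.D_le_centralizer_comm hG pb2).trans (centralizer_le hE3')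
  exact (le_centralizer_sup hD3 hD1).trans
    (centralizer_le (compl_le_sup hG h.hM h.hE (h.tau2_empty hG pb2) hE1 hE3))

/-- step 5a. -/
theorem step5a (hG : Cfsg.IsMinSimpleOddOrder G) (pb2 : Pb2 G)
    (h : Hyp M E X H p) {P' : Subgroup G} {t : ℕ} (ht : t ∈ Cfsg.tau1 M) (hPE : P' ≤ E)
    (hP : Nat.card P' = t) (hPX : ¬ P' ≤ centralizer (X : Set G))
    (hDP : Cfsg.sigmaCore M ⊓ centralizer (X : Set G) ≤ centralizer (P' : Set G)) : False := by
  have hpp : Fact p.Prime := ⟨h.prime⟩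
  have htp : Fact t.Prime := ⟨ht.1⟩
  have hfpf : X ⊓ centralizer (P' : Set G) = ⊥ := by
    rcases inf_eq_bot_or_le_of_card_prime (X := X) (K := centralizer (P' : Set G))
      (by rw [h.hX]; exact h.prime) with h1 | h1
    · exact h1
    · exact absurd (le_centralizer_iff.mp h1) hPX
  have h1 := (Cfsg.Agent.Lib.Helper31.BG134.bg1218a (texts0 hG) h.hM ht (tau1_ne_tau3 ht h.hp)
    (not_alpha_of_rank_one h.prime h.hp.2.2.2) (hPE.trans h.hE.1) hP h.XM
    (isPGroup_of_card_prime h.hX) (hPE.trans (h.step0 hG).1) hfpf (h.alphaCore_ne_bot hG pb2)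
    (fun hN => h.ne hG pb2 (hN H h.hH h.hNX))).2
  apply h.alphaCore_inf_D_ne_bot hG pb2 (h.D_le_centralizer_E_of hG pb2 ht hPE hP hDP)
  rw [eq_bot_iff, ← h1]
  exact le_inf (le_inf inf_le_left (inf_le_right.trans inf_le_right)) (inf_le_right.trans hDP)

/-- steps 5b, 5c: if `P' ≤ E` of prime order `t` does not centralize `D`, then `t ∈ τ₁(H)` and the
configuration is symmetric. -/
theorem swap (hG : Cfsg.IsMinSimpleOddOrder G) (pb2 : Pb2 G)
    (h : Hyp M E X H p) {P' : Subgroup G} {t : ℕ} (ht : t.Prime) (hPE : P' ≤ E)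
    (hP : Nat.card P' = t)
    (hDP : ¬ Cfsg.sigmaCore M ⊓ centralizer (X : Set G) ≤ centralizer (P' : Set G)) :
    t ∈ Cfsg.tau1 H ∧ ∃ (l : ℕ) (EH Y₁ : Subgroup G), Hyp H EH Y₁ M l ∧ P' ≤ EH ∧
      Y₁ ≤ Cfsg.sigmaCore M ∧ Y₁ ⊓ centralizer (P' : Set G) = ⊥ := by
  have hpp : Fact p.Prime := ⟨h.prime⟩
  have htp : Fact t.Prime := ⟨ht⟩
  have hPp : IsPGroup t P' := isPGroup_of_card_prime hP
  have hPH : P' ≤ H := hPE.trans (h.EH hG)
  have hco : (Nat.card P').Coprime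
      (Nat.card (Cfsg.sigmaCore M ⊓ centralizer (X : Set G) : Subgroup G)) :=
    Nat.Coprime.of_dvd (card_dvd_of_le hPE) (card_dvd_of_le inf_le_left) (coprime_E hG h.hM h.hE)
  have hsol : Group.IsSolvable P' :=
    solvable_of_ne_top hG (fun e => h.E_ne_top (top_le_iff.1 (e ▸ hPE)))
  obtain ⟨l, hl, Y, hlD, hYD, hYl, hY1, hPY, hYP⟩ :=
    exists_comm_pgroup (hPE.trans (h.E_norm_D hG)) hco (Or.inl hsol) hDP
  have hlM : l ∈ Cfsg.sigma M :=
    (sigmaCore_hall hG h.hM).2.1 l hl.out (hlD.trans (card_dvd_of_le inf_le_left))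
  have hlH : l ∉ Cfsg.sigma H := h.sigma_disj hG pb2 l hlM
  have hYH : Y ≤ H := hYD.trans h.D_le_H
  have hYMσ : Y ≤ Cfsg.sigmaCore M := hYD.trans inf_le_left
  have hYM : Y ≤ M := hYMσ.trans (sigmaCore_le M)
  have hYH' : Y ≤ ⁅H, H⁆ := by
    rw [← hYP]
    exact commutator_mono hYH hPH
  have htM : t ∉ Cfsg.sigma M :=
    not_mem_sigma_of_dvd_compl hG h.hM h.hE ht (hP ▸ card_dvd_of_le hPE)
  have hlt : l ≠ t := by
    rintro rfl
    exact htM hlM
  have hcol : (Nat.card P').Coprime l := Nat.Coprime.of_dvd_right hlD hco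
  have htH : t ∣ Nat.card H := hP ▸ card_dvd_of_le hPH
  have htσ : t ∉ Cfsg.sigma H := by
    intro hσ
    have h1 : P' ≤ Cfsg.sigmaCore H := isPGroup_le_sigmaCore hG h.hH hσ hPH hPp
    apply hY1
    rw [eq_bot_iff, ← h.sigmaCore_inf hG pb2]
    refine le_inf hYMσ ?_
    rw [← hYP, commutator_comm]
    exact (commutator_mono h1 hYH).trans
      (commutator_le_of_le_normalizer (le_normalizer_sigmaCore H))
  have hlβ : l ∉ Cfsg.beta H := fun hb => h.not_beta_H hG pb2 hlM hb.1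
  have ht1 : t ∈ Cfsg.tau1 H := by
    rcases Cfsg.Agent.Lib.Helper58.BG13.tau_cases hG h.hH ht htH htσ with h1 | h1 | h1
    · exact h1
    · exact absurd (Cfsg.Agent.Lib.Helper58.BG13.case_r_tau2 hG (t18 hG) h.hH hlt hlH h1 hPH hP hYl
        hYH hPY hYP) hY1
    · exfalso
      have h2 : P' ≤ ⁅H, H⁆ := Cfsg.Agent.Lib.Helper58.BG13.le_commutator_of_tau3 hG h1 hPH hP
      have h3 : P' ≤ centralizer (Y : Set G) := lemmaK hG h.hH hlβ hYl hY1 hYH' h2 hcol hPY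
      apply hY1
      rw [← hYP, commutator_comm]
      exact (Subgroup.commutator_eq_bot_iff_le_centralizer).mpr h3
  refine ⟨ht1, ?_⟩
  have hldY : l ∣ Nat.card Y := dvd_card_of_isPGroup_ne_bot' hYl hY1
  have hYX : Y ≤ centralizer (X : Set G) := hYD.trans inf_le_right
  have hl3 : l ∈ Cfsg.tau3 H := by
    rcases Cfsg.Agent.Lib.Helper58.BG13.tau_cases hG h.hH hl.out
      (hldY.trans (card_dvd_of_le hYH)) hlH with h1 | h1 | h1
    · exact absurd (hldY.trans (card_dvd_of_le hYH')) h1.2.2.2.1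
    · exact (Cfsg.Agent.Lib.Helper58.BG13.case_q_tau2 hG (c16 hG) (t17 hG) (t18 hG) h.hM h.hH
        (h.ne hG pb2) hlM h1 (h.sigmaH hG pb2) (isPGroup_of_card_prime h.hX)
        (ne_bot_of_card_prime h.hX) h.XM h.XH hYl hY1 hYM hYH hYX).elim
    · exact h1
  obtain ⟨EH, hEH, hle⟩ := exists_compl_ge hG h.hH (X := P' ⊔ Y) (sup_le hPH hYH) (by
    intro q hq hd
    rcases Cfsg.Agent.Lib.Helper58.BG13.prime_dvd_card_sup hPp hYl hPY hq hd with e | e
    · rw [e]; exact htσ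
    · rw [e]; exact hlH)
  obtain ⟨Y₁, hY₁Y, hY₁⟩ := Cfsg.Agent.Lib.Helper58.BG13.exists_card_prime_le hYl hY1
  have hY₁1 : Y₁ ≠ ⊥ := ne_bot_of_card_prime hY₁
  have hY₁top : Y₁ ≠ ⊤ := fun e => h.hM.1 (top_le_iff.1 (e ▸ hY₁Y.trans hYM))
  obtain ⟨N, hN, hNN⟩ := exists_coatom_ge (normalizer_ne_top hG hY₁1 hY₁top)
  have hD' : Cfsg.sigmaCore H ⊓ centralizer (Y₁ : Set G) ≠ ⊥ := by
    intro e
    apply ne_bot_of_card_prime h.hX
    rw [eq_bot_iff, ← e]
    exact le_inf (h.X_le_sigmaCore hG pb2) (le_centralizer_iff.mp (hY₁Y.trans hYX))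
  have hyp0 : Hyp H EH Y₁ N l :=
    ⟨h.hH, hEH, hl3, hY₁Y.trans (le_sup_right.trans hle), hY₁, hD', hN, hNN⟩
  have hNM : N = M := by
    by_contra hne
    have h1 := (Cfsg.Agent.Lib.Helper24.BG14.lemmaA hG (t16 hG) (t17 hG) (t18 hG) (t78 hG) h.hM hN
      hne hlM (isPGroup_of_card_prime hY₁) hY₁1 (hY₁Y.trans hYM) hNN).2.1
    exact h1.2.1 (hyp0.sigmaH hG pb2)
  subst hNM
  refine ⟨l, EH, Y₁, hyp0, le_sup_left.trans hle, hY₁Y.trans hYMσ, ?_⟩
  have hYc : IsMulCommutative Y := by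
    by_contra hna
    have h1 := Cfsg.Agent.S1422.result hG l Y hYl hna
    exact h.ne hG pb2 (uniq_eq h1 h.hM hYM h.hH hYH)
  have h1 := Cfsg.Agent.Lib.Helper69.commutator_inf_centralizer_eq_bot Y P' hYc hPY
    (Nat.Coprime.of_dvd_left (card_dvd_of_le hYD) hco.symm)
  rw [hYP] at h1
  rw [eq_bot_iff, ← h1]
  exact inf_le_inf_right _ hY₁Y

end Hyp

end Cfsg.Agent.Lib.Helper74.BG1311
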