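import Cfsg.Agent.Lib.Helper31.Nilpotent
import Cfsg.Agent.Lib.Helper77.Frobenius
import Cfsg.Prelude.Def_Transfer

set_option autoImplicit false

namespace Cfsg.Agent.Lib.Helper74

open Cfsg.Agent.Lib.Helper31 Cfsg.Agent.Lib.Helper77
open scoped commutatorElement

theorem isNilpotent_of_injective {A B : Type*} [Group A] [Group B] (f : A →* B)
    (hf : Function.Injective f) (hB : Group.IsNilpotent B) : Group.IsNilpotent A :=
  Subgroup.isNilpotent_of_ker_le_center f
    (by rw [(MonoidHom.ker_eq_bot_iff f).2 hf]; exact bot_le)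

theorem isNilpotent_of_le {G : Type*} [Group G] {H M : Subgroup G} (h : H ≤ M)
    (hM : Group.IsNilpotent M) : Group.IsNilpotent H :=
  isNilpotent_of_injective (Subgroup.inclusion h) (Subgroup.inclusion_injective h) hM

theorem isNilpotent_map_subtype_iff {G : Type*} [Group G] {K : Subgroup G} (H : Subgroup K) :
    Group.IsNilpotent H ↔ Group.IsNilpotent (H.map K.subtype) :=
  Group.isNilpotent_congr (H.equivMapOfInjective K.subtype K.subtype_injective)

theorem isNilpotent_subgroupOf_iff {G : Type*} [Group G] (H K : Subgroup G) :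
    Group.IsNilpotent (H.subgroupOf K) ↔ Group.IsNilpotent ↥(H ⊓ K) := by
  rw [isNilpotent_map_subtype_iff, Subgroup.subgroupOf_map_subtype]

theorem commute_of_mem_isNilpotent {G : Type*} [Group G] {L : Subgroup G}
    (hL : Group.IsNilpotent L) {a b : G} (ha : a ∈ L) (hb : b ∈ L)
    (hab : (orderOf a).Coprime (orderOf b)) : a * b = b * a := by
  have h := commute_of_coprime_orderOf L ⟨a, ha⟩ ⟨b, hb⟩
    (by rwa [Subgroup.orderOf_mk, Subgroup.orderOf_mk])
  exact congrArg Subtype.val h.eq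

theorem hasNormalPComplement_iff_npc {G : Type*} [Group G] [Finite G] {p : ℕ} [Fact p.Prime] :
    Cfsg.HasNormalPComplement p G ↔ NPC p G := by
  constructor
  · rintro ⟨P, N, hN, hc⟩
    obtain ⟨h1, h2⟩ := npc_of_isComplement' P hc
    exact ⟨N, hN, h1, h2⟩
  · rintro ⟨K, hKn, hKc, k, hk⟩
    obtain ⟨P⟩ : Nonempty (Sylow p G) := inferInstance
    exact ⟨P, K, hKn, isComplement'_of_npc hKc hk P⟩

/-- A finite nilpotent group has a normal `p`-complement. -/
theorem npc_of_isNilpotent {G : Type*} [Group G] [Finite G] {p : ℕ} [Fact p.Prime]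
    [Group.IsNilpotent G] : NPC p G := by
  rw [npc_iff_frobCond]
  intro Q hQ g _ hgo
  rw [Subgroup.mem_centralizer_iff]
  intro q hq
  obtain ⟨k, hk⟩ := hQ ⟨q, hq⟩
  have hk' : q ^ p ^ k = 1 := by simpa using congrArg Subtype.val hk
  exact (commute_of_coprime_orderOf G q g
    (Nat.Coprime.coprime_dvd_left (orderOf_dvd_of_pow_eq_one hk')
      (Nat.Coprime.pow_left k hgo.symm))).eq

/-- A nontrivial solvable normal subgroup `H` of a finite group `G` contains a nontrivial
elementary abelian subgroup which is normal in `G`. -/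
theorem exists_normal_elemAbelian_le {G : Type*} [Group G] [Finite G] (H : Subgroup G)
    [hHn : H.Normal] (hH : H ≠ ⊥) (hsol : Group.IsSolvable H) :
    ∃ (r : ℕ) (N : Subgroup G), r.Prime ∧ N.Normal ∧ N ≠ ⊥ ∧ N ≤ H ∧
      (∀ x ∈ N, ∀ y ∈ N, x * y = y * x) ∧ ∀ x ∈ N, x ^ r = 1 := by
  classical
  have hex : ∃ n, derivedSeries H n = ⊥ := hsol.solvable
  have hmin : ∀ m, m < Nat.find hex → derivedSeries H m ≠ ⊥ := fun m hm => Nat.find_min hex hm
  have hspec := Nat.find_spec hex
  set k := Nat.find hex with hk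
  have hnt : Nontrivial H := (Subgroup.nontrivial_iff_ne_bot H).2 hH
  rcases Nat.eq_zero_or_pos k with h0 | hpos
  · rw [h0, derivedSeries_zero] at hspec
    exact absurd hspec top_ne_bot
  obtain ⟨j, hj⟩ : ∃ j, k = j + 1 := ⟨k - 1, by omega⟩
  set A : Subgroup G := (derivedSeries H j).map H.subtype with hA
  have hAn : A.Normal := ConjAct.normal_of_characteristic_of_normal
  have hAne : A ≠ ⊥ := by
    intro h
    exact hmin j (by omega) ((Subgroup.map_eq_bot_iff_of_injective _ H.subtype_injective).1 h)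
  have hAH : A ≤ H := by
    rintro _ ⟨x, _, rfl⟩; exact x.2
  have hAc : ∀ x ∈ A, ∀ y ∈ A, x * y = y * x := by
    rintro _ ⟨x, hx, rfl⟩ _ ⟨y, hy, rfl⟩
    have h1 : ⁅x, y⁆ ∈ derivedSeries H (j + 1) := by
      rw [derivedSeries_succ]
      exact Subgroup.commutator_mem_commutator hx hy
    rw [← hj, hspec, Subgroup.mem_bot, commutatorElement_eq_one_iff_mul_comm] at h1
    exact congrArg Subtype.val h1
  have hcard : Nat.card A ≠ 1 := fun h => hAne ((Subgroup.card_eq_one).mp h)
  obtain ⟨q, hq, hqd⟩ := Nat.exists_prime_and_dvd hcard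
  have : Fact q.Prime := ⟨hq⟩
  obtain ⟨a, ha⟩ := exists_prime_orderOf_dvd_card' q hqd
  let B : Subgroup G :=
    { carrier := {x | x ∈ A ∧ x ^ q = 1}
      mul_mem' := by
        rintro x y ⟨hx, hx1⟩ ⟨hy, hy1⟩
        refine ⟨A.mul_mem hx hy, ?_⟩
        have hc : Commute x y := hAc x hx y hy
        rw [hc.mul_pow, hx1, hy1, one_mul]
      one_mem' := ⟨A.one_mem, one_pow _⟩
      inv_mem' := by
        rintro x ⟨hx, hx1⟩
        exact ⟨A.inv_mem hx, by rw [inv_pow, hx1, inv_one]⟩ }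
  have hBmem : ∀ x, x ∈ B ↔ x ∈ A ∧ x ^ q = 1 := fun x => Iff.rfl
  refine ⟨q, B, hq, ⟨?_⟩, ?_, ?_, ?_, ?_⟩
  · intro n hn g
    obtain ⟨h1, h2⟩ := (hBmem n).1 hn
    exact (hBmem _).2 ⟨hAn.conj_mem n h1 g, by rw [conj_pow, h2]; group⟩
  · intro h
    have h1 : (a : G) ∈ B := (hBmem _).2 ⟨a.2, by
      have := pow_orderOf_eq_one a
      rw [ha] at this
      simpa using congrArg Subtype.val this⟩
    rw [h, Subgroup.mem_bot] at h1
    have h2 : a = 1 := Subtype.ext h1
    rw [h2, orderOf_one] at ha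
    exact hq.one_lt.ne ha
  · intro x hx
    exact hAH ((hBmem x).1 hx).1
  · intro x hx y hy
    exact hAc x ((hBmem x).1 hx).1 y ((hBmem y).1 hy).1
  · intro x hx
    exact ((hBmem x).1 hx).2

end Cfsg.Agent.Lib.Helper74
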