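import Cfsg.Agent.Lib.Helper58.BG13e
import Cfsg.Agent.Lib.Helper27.BG14c
import Cfsg.Agent.Lib.Helper24.BG14A
import Cfsg.Agent.S1378
import Cfsg.Agent.S1426
import Cfsg.Agent.S1427
import Cfsg.Agent.S1428

/-!
Bender-Glauberman 13.10 + 13.11 (`P11` of `Helper27.BG14`): basic consequences of the hypothesis
`C_{M_σ}(X) ≠ 1`, `X` of order `p ∈ τ₃(M)` (steps 0-4 of the paper proof).
-/

set_option autoImplicit false
set_option linter.style.haveILetI false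
set_option linter.unusedSectionVars false

namespace Cfsg.Agent.Lib.Helper74.BG1311

open Subgroup Cfsg.Agent.Lib.Helper30 Cfsg.Agent.Lib.Helper2 Cfsg.Agent.Lib.Helper68
  Cfsg.Agent.Lib.Helper28.BG12
open Cfsg.Agent.Lib.Helper58.BG13 (lemmaK exists_comm_pgroup eq_of_le_cyclic_of_card_eq
  isPGroup_of_card_prime ne_bot_of_card_prime texts0)
open Cfsg.Agent.Lib.Helper27.BG14 (Pb2 P11)
open scoped commutatorElement

universe u

variable {G : Type u} [Group G]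

/-! ### generalities -/

theorem le_normalizer_of_le_cyclic [Finite G] {E C X : Subgroup G} (hC : IsCyclic C)
    (hEC : E ≤ normalizer (C : Set G)) (hXC : X ≤ C) : E ≤ normalizer (X : Set G) := by
  intro e he
  apply mem_normalizer_of_cj_eq
  have h1 : cj e X ≤ C := by
    calc cj e X ≤ cj e C := cj_mono e hXC
      _ = C := cj_eq_of_mem_normalizer (hEC he)
  exact eq_of_le_cyclic_of_card_eq hC h1 hXC (card_cj e X)

theorem le_normalizer_centralizer_of {A X : Subgroup G} (h : A ≤ normalizer (X : Set G)) :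
    A ≤ normalizer ((centralizer (X : Set G) : Subgroup G) : Set G) :=
  h.trans (Cfsg.Agent.Lib.Helper28.normalizer_le_normalizer_centralizer X)

theorem le_centralizer_of_commutator_eq_bot {A B : Subgroup G} (h : ⁅A, B⁆ = ⊥) :
    A ≤ centralizer (B : Set G) :=
  (Subgroup.commutator_eq_bot_iff_le_centralizer).mp h

theorem inf_eq_bot_of_primes [Finite G] {A B : Subgroup G} {π ρ : Set ℕ}
    (hA : ∀ q : ℕ, q.Prime → q ∣ Nat.card A → q ∈ π)
    (hB : ∀ q : ℕ, q.Prime → q ∣ Nat.card B → q ∈ ρ)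
    (hd : ∀ q, q ∈ π → q ∉ ρ) : A ⊓ B = ⊥ := by
  apply Disjoint.eq_bot
  apply Subgroup.disjoint_of_coprime_natCard
  apply Nat.coprime_of_dvd
  intro q hq h1 h2
  exact hd q (hA q hq h1) (hB q hq h2)

/-! ### the texts -/

theorem t16 [Finite G] (hG : Cfsg.IsMinSimpleOddOrder G) : T1416 G :=
  fun M hM p _ A hA => (Cfsg.Agent.S1416.result hG M hM p A hA).1

theorem c16 [Finite G] (hG : Cfsg.IsMinSimpleOddOrder G) : Cfsg.Agent.Lib.Helper58.BG12.C16 G :=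
  fun M hM p _ A h1 h2 h3 => (Cfsg.Agent.S1416.result hG M hM p A ⟨h1, h2, h3⟩).1

theorem t17 [Finite G] (hG : Cfsg.IsMinSimpleOddOrder G) : T1417 G :=
  fun M hM p _ hp A hA => Cfsg.Agent.S1417.result hG M hM p hp A hA

theorem t18 [Finite G] (hG : Cfsg.IsMinSimpleOddOrder G) : T1418 G :=
  fun M hM E hE p _ hp A hA => Cfsg.Agent.S1418.result hG M hM E hE p hp A hA

theorem t78 [Finite G] (hG : Cfsg.IsMinSimpleOddOrder G) : Cfsg.Agent.Lib.Helper24.BG14.T1378 G :=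
  (Cfsg.Agent.S1378.result hG).2

theorem t27 [Finite G] (hG : Cfsg.IsMinSimpleOddOrder G) : Cfsg.Agent.Lib.Helper2.BG139.T1427 G :=
  fun M hM E hE p _ S h1 h2 => Cfsg.Agent.S1427.result hG M hM E hE p S h1 h2

/-! ### Hall subgroups of a complement -/

theorem compl_ne_top {M E : Subgroup G} (hM : IsCoatom M)
    (hE : Cfsg.IsComplIn E (Cfsg.sigmaCore M) M) : E ≠ ⊤ :=
  fun e => hM.1 (top_le_iff.1 (e ▸ hE.1))

theorem exists_hall_ge [Finite G] (hG : Cfsg.IsMinSimpleOddOrder G) {M E : Subgroup G}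
    (hM : IsCoatom M) (hE : Cfsg.IsComplIn E (Cfsg.sigmaCore M) M) (π : Set ℕ) {U : Subgroup G}
    (hUE : U ≤ E) (hU : ∀ q : ℕ, q.Prime → q ∣ Nat.card U → q ∈ π) :
    ∃ K, Cfsg.IsPiHallOf π K E ∧ U ≤ K := by
  obtain ⟨K, hK, -, hUK⟩ := Cfsg.Agent.Lib.Helper66.exists_invariant_isPiHallOf_ge
    (π := π) (A := ⊥) (G := E) (U := U) bot_le (by simp)
    (solvable_of_ne_top hG (compl_ne_top hM hE)) hUE bot_le hU
  exact ⟨K, hK, hUK⟩

theorem prime_dvd_card_prime {X : Subgroup G} {p q : ℕ} (hp : p.Prime) (hX : Nat.card X = p)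
    (hq : q.Prime) (hd : q ∣ Nat.card X) : q = p := by
  rw [hX] at hd
  exact (Nat.prime_dvd_prime_iff_eq hq hp).1 hd

/-- a subgroup `X ≤ E` of order `p ∈ τ₃(M)` is normal in `E` and lies in `E'`. -/
theorem tau3_basic [Finite G] (hG : Cfsg.IsMinSimpleOddOrder G) {M E X : Subgroup G} {p : ℕ}
    (hM : IsCoatom M) (hE : Cfsg.IsComplIn E (Cfsg.sigmaCore M) M) (hp : p ∈ Cfsg.tau3 M)
    (hXE : X ≤ E) (hX : Nat.card X = p) :
    E ≤ normalizer (X : Set G) ∧ X ≤ ⁅E, E⁆ := by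
  obtain ⟨E3, hE3, hXE3⟩ := exists_hall_ge hG hM hE (Cfsg.tau3 M) hXE (by
      intro q hq hd
      rw [prime_dvd_card_prime hp.1 hX hq hd]
      exact hp)
  obtain ⟨hc, h1, h2⟩ := (Cfsg.Agent.S1415.result hG M hM E hE).2.2 E3 hE3
  exact ⟨le_normalizer_of_le_cyclic hc h2 hXE3, hXE3.trans h1⟩

/-- if `τ₂(M) = ∅` then `E = E₃ E₁`. -/
theorem compl_le_sup [Finite G] (hG : Cfsg.IsMinSimpleOddOrder G) {M E E1 E3 : Subgroup G}
    (hM : IsCoatom M) (hE : Cfsg.IsComplIn E (Cfsg.sigmaCore M) M) (h2 : Cfsg.tau2 M = ∅)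
    (hE1 : Cfsg.IsPiHallOf (Cfsg.tau1 M) E1 E) (hE3 : Cfsg.IsPiHallOf (Cfsg.tau3 M) E3 E) :
    E ≤ E3 ⊔ E1 := by
  apply le_of_forall_isSylowIn
  intro q hq hqE
  have hqσ := not_mem_sigma_of_dvd_compl hG hM hE hq.out hqE
  rcases Cfsg.Agent.Lib.Helper58.BG13.tau_cases hG hM hq.out (hqE.trans (card_dvd_of_le hE.1)) hqσ
    with h | h | h
  · obtain ⟨S, hS⟩ := exists_isSylowIn q E1
    exact ⟨S, Cfsg.Agent.Lib.Helper2.BG139.isSylowIn_of_hall hq.out h hE1 hS,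
      hS.le.trans le_sup_right⟩
  · rw [h2] at h
    exact absurd h (Set.notMem_empty q)
  · obtain ⟨S, hS⟩ := exists_isSylowIn q E3
    exact ⟨S, Cfsg.Agent.Lib.Helper2.BG139.isSylowIn_of_hall hq.out h hE3 hS,
      hS.le.trans le_sup_left⟩

theorem inf_eq_bot_or_le_of_card_prime [Finite G] {X K : Subgroup G} (hX : (Nat.card X).Prime) :
    X ⊓ K = ⊥ ∨ X ≤ K := by
  have h1 : Nat.card (X ⊓ K : Subgroup G) ∣ Nat.card X := card_dvd_of_le inf_le_left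
  rcases (Nat.dvd_prime hX).1 h1 with h | h
  · exact Or.inl (Subgroup.card_eq_one.mp h)
  · right
    have h2 : X ⊓ K = X := Subgroup.eq_of_le_of_card_ge inf_le_left h.ge
    exact h2 ▸ inf_le_right

theorem le_centralizer_sup {D A B : Subgroup G} (hA : D ≤ centralizer (A : Set G))
    (hB : D ≤ centralizer (B : Set G)) : D ≤ centralizer ((A ⊔ B : Subgroup G) : Set G) := by
  rw [le_centralizer_iff] at hA hB ⊢
  exact sup_le hA hB

/-! ### the hypothesis -/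

/-- the hypothesis of 13.10: `X ≤ E` of order `p ∈ τ₃(M)` with `C_{M_σ}(X) ≠ 1`, and a maximal
subgroup `H ≥ N(X)`. -/
structure Hyp (M E X H : Subgroup G) (p : ℕ) : Prop where
  hM : IsCoatom M
  hE : Cfsg.IsComplIn E (Cfsg.sigmaCore M) M
  hp : p ∈ Cfsg.tau3 M
  hXE : X ≤ E
  hX : Nat.card X = p
  hD : Cfsg.sigmaCore M ⊓ centralizer (X : Set G) ≠ ⊥
  hH : IsCoatom H
  hNX : normalizer (X : Set G) ≤ H

namespace Hyp

variable [Finite G] {M E X H : Subgroup G} {p : ℕ}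

theorem prime (h : Hyp M E X H p) : p.Prime := h.hp.1

theorem XM (h : Hyp M E X H p) : X ≤ M := h.hXE.trans h.hE.1

theorem E_ne_top (h : Hyp M E X H p) : E ≠ ⊤ := fun e => h.hM.1 (top_le_iff.1 (e ▸ h.hE.1))

/-- step 0: `E` normalizes `X`, and `X ≤ E'`. -/
theorem step0 (hG : Cfsg.IsMinSimpleOddOrder G) (h : Hyp M E X H p) :
    E ≤ normalizer (X : Set G) ∧ X ≤ ⁅E, E⁆ :=
  tau3_basic hG h.hM h.hE h.hp h.hXE h.hX

theorem EH (hG : Cfsg.IsMinSimpleOddOrder G) (h : Hyp M E X H p) : E ≤ H :=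
  (h.step0 hG).1.trans h.hNX

theorem XH (h : Hyp M E X H p) : X ≤ H := le_normalizer.trans h.hNX

theorem kappa (hG : Cfsg.IsMinSimpleOddOrder G) (h : Hyp M E X H p) : p ∈ Cfsg.kappa M := by
  have : Fact p.Prime := ⟨h.prime⟩
  obtain ⟨x, hx⟩ := exists_prime_orderOf_dvd_card' (G := X) p (by rw [h.hX])
  obtain ⟨⟨y, hy⟩, hy1⟩ := Subgroup.ne_bot_iff_exists_ne_one.mp h.hD
  exact Cfsg.Agent.Lib.Helper28.BG12.mem_kappa_of hG h.hp.2.1 h.hp.2.2.2 (h.XM x.2)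
    (by rw [Subgroup.orderOf_coe, hx]) hy.1 (fun e => hy1 (Subtype.ext e))
    (mem_centralizer_iff.mp hy.2 x.1 x.2)

theorem sigmaH (hG : Cfsg.IsMinSimpleOddOrder G) (pb2 : Pb2 G) (h : Hyp M E X H p) :
    p ∈ Cfsg.sigma H :=
  pb2 M h.hM p (h.kappa hG) X h.XM h.hX H h.hH h.hNX

theorem nconj (hG : Cfsg.IsMinSimpleOddOrder G) (pb2 : Pb2 G) (h : Hyp M E X H p) (g : G) :
    H ≠ cj g M := by
  intro e
  have h1 := h.sigmaH hG pb2
  rw [e, Cfsg.Agent.Lib.Helper24.BG14.sigma_cj] at h1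
  exact h.hp.2.1 h1

theorem ne (hG : Cfsg.IsMinSimpleOddOrder G) (pb2 : Pb2 G) (h : Hyp M E X H p) : H ≠ M := by
  intro e
  exact h.nconj hG pb2 1 (by rw [cj_one]; exact e)

theorem nconj' (hG : Cfsg.IsMinSimpleOddOrder G) (pb2 : Pb2 G) (h : Hyp M E X H p) (g : G) :
    M ≠ cj g H := by
  intro e
  apply h.nconj hG pb2 g⁻¹
  rw [e, cj_inv_cj]

theorem X_le_sigmaCore (hG : Cfsg.IsMinSimpleOddOrder G) (pb2 : Pb2 G) (h : Hyp M E X H p) :
    X ≤ Cfsg.sigmaCore H := by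
  have : Fact p.Prime := ⟨h.prime⟩
  exact isPGroup_le_sigmaCore hG h.hH (h.sigmaH hG pb2) h.XH (isPGroup_of_card_prime h.hX)

theorem D_le_H (h : Hyp M E X H p) : Cfsg.sigmaCore M ⊓ centralizer (X : Set G) ≤ H :=
  inf_le_right.trans ((centralizer_le_normalizer' X).trans h.hNX)

/-- step 1: `τ₂(M) = ∅`. -/
theorem tau2_empty (hG : Cfsg.IsMinSimpleOddOrder G) (pb2 : Pb2 G) (h : Hyp M E X H p) :
    Cfsg.tau2 M = ∅ := by
  rw [Set.eq_empty_iff_forall_notMem]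
  intro q hq
  have : Fact q.Prime := ⟨hq.1⟩
  obtain ⟨A, hAE, hA, hAc⟩ := exists_ea_sq_in_compl hG h.hM h.hE hq
  have h1 := (Cfsg.Agent.S1417.result hG M h.hM q hq A ⟨hAE.trans h.hE.1, hA, hAc⟩).2.2.2.2.1 H h.hH
    (h.ne hG pb2) (hAE.trans (h.EH hG))
  apply h.hD
  rw [eq_bot_iff, ← h1]
  exact le_inf inf_le_left h.D_le_H

theorem sigma_disj (hG : Cfsg.IsMinSimpleOddOrder G) (pb2 : Pb2 G) (h : Hyp M E X H p) (q : ℕ)
    (hq : q ∈ Cfsg.sigma M) : q ∉ Cfsg.sigma H :=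
  Cfsg.Agent.Lib.Helper24.BG14.not_mem_sigma_of_nconj (t78 hG) h.hM h.hH (h.nconj hG pb2) hq

/-- step 2: `M_σ ∩ H_σ = 1`. -/
theorem sigmaCore_inf (hG : Cfsg.IsMinSimpleOddOrder G) (pb2 : Pb2 G) (h : Hyp M E X H p) :
    Cfsg.sigmaCore M ⊓ Cfsg.sigmaCore H = ⊥ :=
  inf_eq_bot_of_primes (sigmaCore_hall hG h.hM).2.1 (sigmaCore_hall hG h.hH).2.1
    (h.sigma_disj hG pb2)

/-- step 2: `M_σ ∩ H = C_{M_σ}(X)`. -/
theorem sigmaCore_inf_H (hG : Cfsg.IsMinSimpleOddOrder G) (pb2 : Pb2 G) (h : Hyp M E X H p) :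
    Cfsg.sigmaCore M ⊓ H ≤ centralizer (X : Set G) := by
  apply le_centralizer_of_commutator_eq_bot
  rw [eq_bot_iff, ← h.sigmaCore_inf hG pb2]
  apply le_inf
  · exact (commutator_mono inf_le_left le_rfl).trans
      (commutator_le_of_le_normalizer (h.XM.trans (le_normalizer_sigmaCore M)))
  · rw [commutator_comm]
    exact (commutator_mono (h.X_le_sigmaCore hG pb2) inf_le_right).trans
      (commutator_le_of_le_normalizer (le_normalizer_sigmaCore H))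

theorem coprime_E (hG : Cfsg.IsMinSimpleOddOrder G) (hM : IsCoatom M)
    (hE : Cfsg.IsComplIn E (Cfsg.sigmaCore M) M) :
    (Nat.card E).Coprime (Nat.card (Cfsg.sigmaCore M)) := by
  apply Nat.coprime_of_dvd
  intro q hq h1 h2
  exact not_mem_sigma_of_dvd_compl hG hM hE hq h1 ((sigmaCore_hall hG hM).2.1 q hq h2)

theorem E_norm_D (hG : Cfsg.IsMinSimpleOddOrder G) (h : Hyp M E X H p) :
    E ≤ normalizer ((Cfsg.sigmaCore M ⊓ centralizer (X : Set G) : Subgroup G) : Set G) :=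
  le_normalizer_inf (h.hE.1.trans (le_normalizer_sigmaCore M))
    (le_normalizer_centralizer_of (h.step0 hG).1)

theorem not_beta_H (hG : Cfsg.IsMinSimpleOddOrder G) (pb2 : Pb2 G) (h : Hyp M E X H p) {l : ℕ}
    (hl : l ∈ Cfsg.sigma M) : l ∉ Cfsg.alpha H := fun hb =>
  Cfsg.Agent.Lib.Helper2.BG12.alpha_sigma_disjoint hG (ut hG) h.hM h.hH (h.nconj hG pb2) hl hb

/-- step 3: `E'` centralizes `D`. -/
theorem D_le_centralizer_comm (hG : Cfsg.IsMinSimpleOddOrder G) (pb2 : Pb2 G)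
    (h : Hyp M E X H p) :
    Cfsg.sigmaCore M ⊓ centralizer (X : Set G) ≤ centralizer ((⁅E, E⁆ : Subgroup G) : Set G) := by
  by_contra hcon
  have hEE : ⁅E, E⁆ ≤ E := commutator_le_self E
  have hco : (Nat.card ↥⁅E, E⁆).Coprime
      (Nat.card (Cfsg.sigmaCore M ⊓ centralizer (X : Set G) : Subgroup G)) :=
    Nat.Coprime.of_dvd (card_dvd_of_le hEE) (card_dvd_of_le inf_le_left) (coprime_E hG h.hM h.hE)
  have hsol : Group.IsSolvable ↥⁅E, E⁆ :=
    solvable_of_ne_top hG (fun e => h.E_ne_top (top_le_iff.1 (e ▸ hEE)))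
  obtain ⟨l, hl, Y, hlD, hYD, hYl, hY1, hPY, hYP⟩ :=
    exists_comm_pgroup (hEE.trans (h.E_norm_D hG)) hco (Or.inl hsol) hcon
  have hlM : l ∈ Cfsg.sigma M :=
    (sigmaCore_hall hG h.hM).2.1 l hl.out (hlD.trans (card_dvd_of_le inf_le_left))
  have hYH : Y ≤ H := hYD.trans h.D_le_H
  have hPH : ⁅E, E⁆ ≤ ⁅H, H⁆ := commutator_mono (h.EH hG) (h.EH hG)
  have h1 : ⁅E, E⁆ ≤ centralizer (Y : Set G) := by
    refine lemmaK hG h.hH (fun hb => h.not_beta_H hG pb2 hlM hb.1) hYl hY1 ?_ hPH ?_ hPY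
    · rw [← hYP]
      exact commutator_mono hYH (hEE.trans (h.EH hG))
    · exact Nat.Coprime.of_dvd_right hlD hco
  apply hY1
  rw [← hYP, commutator_comm]
  exact (Subgroup.commutator_eq_bot_iff_le_centralizer).mpr h1

theorem D_eq (hG : Cfsg.IsMinSimpleOddOrder G) (pb2 : Pb2 G) (h : Hyp M E X H p) :
    Cfsg.sigmaCore M ⊓ centralizer (X : Set G) =
      Cfsg.sigmaCore M ⊓ centralizer ((⁅E, E⁆ : Subgroup G) : Set G) :=
  le_antisymm (le_inf inf_le_left (h.D_le_centralizer_comm hG pb2))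
    (inf_le_inf_left _ (centralizer_le (h.step0 hG).2))

/-- step 4: invariant `l`-subgroups of `M_σ`, `l ∉ β(M)`, lie in `D`. -/
theorem le_D_of_not_beta (hG : Cfsg.IsMinSimpleOddOrder G) (h : Hyp M E X H p) {l : ℕ}
    [hl : Fact l.Prime] (hlM : l ∈ Cfsg.sigma M) (hlb : l ∉ Cfsg.beta M) {S : Subgroup G}
    (hS : S ≤ Cfsg.sigmaCore M) (hSl : IsPGroup l S) (hXS : X ≤ normalizer (S : Set G)) :
    S ≤ Cfsg.sigmaCore M ⊓ centralizer (X : Set G) := by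
  by_cases hS1 : S = ⊥
  · rw [hS1]; exact bot_le
  refine le_inf hS ?_
  rw [le_centralizer_iff]
  refine lemmaK hG h.hM hlb hSl hS1
    (hS.trans (Cfsg.Agent.Lib.Helper2.BG139.sigmaCore_le_commutator0 (texts0 hG) h.hM))
    ((h.step0 hG).2.trans (commutator_mono h.hE.1 h.hE.1)) ?_ hXS
  rw [h.hX, Nat.coprime_primes h.prime hl.out]
  rintro rfl
  exact h.hp.2.1 hlM

theorem exists_sylow_le_D (hG : Cfsg.IsMinSimpleOddOrder G) (h : Hyp M E X H p) {l : ℕ}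
    [hl : Fact l.Prime] (hlM : l ∈ Cfsg.sigma M) (hlb : l ∉ Cfsg.beta M) :
    ∃ S, IsSylowIn l S (Cfsg.sigmaCore M) ∧ S ≤ Cfsg.sigmaCore M ⊓ centralizer (X : Set G) := by
  obtain ⟨S, hS, hES⟩ := exists_invariant_isSylowIn (h.hE.1.trans (le_normalizer_sigmaCore M))
    (coprime_E hG h.hM h.hE) (Or.inl (solvable_of_ne_top hG h.E_ne_top)) l
  exact ⟨S, hS, h.le_D_of_not_beta hG hlM hlb hS.le hS.isPGroup (h.hXE.trans hES)⟩

/-- step 4: `α(M) ⊆ β(M)`. -/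
theorem alpha_sub_beta (hG : Cfsg.IsMinSimpleOddOrder G) (pb2 : Pb2 G) (h : Hyp M E X H p)
    (l : ℕ) (hl : l ∈ Cfsg.alpha M) : l ∈ Cfsg.beta M := by
  by_contra hlb
  have : Fact l.Prime := ⟨hl.1⟩
  have hlM : l ∈ Cfsg.sigma M := mem_sigma_of_mem_alpha hG (ut hG) h.hM hl
  obtain ⟨S, hS, hSD⟩ := h.exists_sylow_le_D hG hlM hlb
  have hSM : IsSylowIn l S M :=
    Cfsg.Agent.Lib.Helper2.BG139.isSylowIn_of_hall hl.1 hlM (sigmaCore_hall hG h.hM) hS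
  obtain ⟨A, hAS, hA, hAc⟩ := exists_elementary_of_not_pRankLE
    (fun hr => hl.2 (Cfsg.Agent.Lib.Helper2.BG12.pRankLE_of_sylow hSM hr))
  exact h.not_beta_H hG pb2 hlM ⟨hl.1,
    Cfsg.Agent.Lib.Helper58.BG9.not_pRankLE_of_le ((hAS.trans hSD).trans h.D_le_H) hA hAc⟩

/-- step 4: `M_α ≠ 1`. -/
theorem alphaCore_ne_bot (hG : Cfsg.IsMinSimpleOddOrder G) (pb2 : Pb2 G) (h : Hyp M E X H p) :
    Cfsg.alphaCore M ≠ ⊥ := by
  intro e
  have h1 : Cfsg.sigmaCore M ≤ Cfsg.sigmaCore M ⊓ centralizer (X : Set G) := by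
    apply le_of_forall_isSylowIn
    intro l hl hld
    have hlM : l ∈ Cfsg.sigma M := (sigmaCore_hall hG h.hM).2.1 l hl.out hld
    have hlb : l ∉ Cfsg.beta M := by
      intro hb
      have h2 := ((texts0 hG).t05 M h.hM).2.2 l hl.out hb.1
      rw [e, Subgroup.relIndex_bot_left] at h2
      exact h2 (hld.trans (card_dvd_of_le (sigmaCore_le M)))
    exact h.exists_sylow_le_D hG hlM hlb
  have h2 : M ≤ H := by
    intro m hm
    obtain ⟨a, ha, b, hb, rfl⟩ := h.hE.2.2.2 m hm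
    exact H.mul_mem (h.EH hG ha) (h.D_le_H (h1 hb))
  exact h.ne hG pb2 (Cfsg.Agent.Lib.Helper2.BG12.eq_of_coatom_le h.hM h.hH h2)

end Hyp

end Cfsg.Agent.Lib.Helper74.BG1311
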