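import Cfsg.Agent.Lib.Helper74.BG1311B
import Cfsg.Agent.Lib.Helper30.BG138
import Cfsg.Agent.Lib.Helper27.BG14d
import Cfsg.Agent.Lib.Helper29.BG136

/-!
Bender-Glauberman 13.10 + 13.11 (`P11` of `Helper27.BG14`): the key step 5 and the final assembly
(steps 6, 7, 8 of the paper proof).
-/

set_option autoImplicit false
set_option linter.style.haveILetI false
set_option linter.unusedSectionVars false

namespace Cfsg.Agent.Lib.Helper74.BG1311

open Subgroup Cfsg.Agent.Lib.Helper30 Cfsg.Agent.Lib.Helper2 Cfsg.Agent.Lib.Helper68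
  Cfsg.Agent.Lib.Helper28.BG12
open Cfsg.Agent.Lib.Helper58.BG13 (lemmaK exists_comm_pgroup eq_of_le_cyclic_of_card_eq
  isPGroup_of_card_prime ne_bot_of_card_prime texts0)
open Cfsg.Agent.Lib.Helper27.BG14 (Pb2 P11)
open scoped commutatorElement

universe u

variable {G : Type u} [Group G]

/-- `Pb2`, unconditionally. -/
theorem pb2 [Finite G] (hG : Cfsg.IsMinSimpleOddOrder G) : Pb2 G :=
  Cfsg.Agent.Lib.Helper27.BG14.Pb2_of hG (c16 hG) (t17 hG) (t18 hG)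
    (Cfsg.Agent.S1378.result hG).2 (Cfsg.Agent.Lib.Helper29.BG136.l136 hG)

namespace Hyp

variable [Finite G] {M E X H : Subgroup G} {p : ℕ}

/-- step 5 (KEY): a subgroup of `E` of order `t ∈ τ₁(M)` centralizes `X`. -/
theorem key (hG : Cfsg.IsMinSimpleOddOrder G) (pb2 : Pb2 G)
    (h : Hyp M E X H p) {P' : Subgroup G} {t : ℕ} (ht : t ∈ Cfsg.tau1 M) (hPE : P' ≤ E)
    (hP : Nat.card P' = t) : P' ≤ centralizer (X : Set G) := by
  by_contra hPX
  by_cases hDP : Cfsg.sigmaCore M ⊓ centralizer (X : Set G) ≤ centralizer (P' : Set G)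
  · exact h.step5a hG pb2 ht hPE hP hPX hDP
  obtain ⟨htH, l, EH, Y₁, h', hPEH, hY₁M, hY₁f⟩ := h.swap hG pb2 ht.1 hPE hP hDP
  have hpp : Fact p.Prime := ⟨h.prime⟩
  have htp : Fact t.Prime := ⟨ht.1⟩
  have hlp : Fact l.Prime := ⟨h'.prime⟩
  have hfpf : X ⊓ centralizer (P' : Set G) = ⊥ := by
    rcases inf_eq_bot_or_le_of_card_prime (X := X) (K := centralizer (P' : Set G))
      (by rw [h.hX]; exact h.prime) with h1 | h1
    · exact h1
    · exact absurd (le_centralizer_iff.mp h1) hPX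
  exact Cfsg.Agent.Lib.Helper30.BG138.asym (texts0 hG) h.hM h.hH
    (fun q h1 h2 => h.sigma_disj hG pb2 q h1 h2) h.hE (h.EH hG) h'.hE (h'.EH hG) ht htH hPE hPEH hP
    h.XM (h.X_le_sigmaCore hG pb2) (isPGroup_of_card_prime h.hX) (tau1_ne_tau3 ht h.hp)
    (not_alpha_of_rank_one h.prime h.hp.2.2.2) (hPE.trans (h.step0 hG).1) hfpf
    (fun hN => h.ne hG pb2 (hN H h.hH h.hNX))
    h'.XM hY₁M (isPGroup_of_card_prime h'.hX) (tau1_ne_tau3 htH h'.hp)
    (not_alpha_of_rank_one h'.prime h'.hp.2.2.2) (hPEH.trans (h'.step0 hG).1) hY₁f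
    (fun hN => h'.ne hG pb2 (hN M h'.hH h'.hNX))
    (h.alphaCore_ne_bot hG pb2) (h'.alphaCore_ne_bot hG pb2) (h.alpha_sub_beta hG pb2)
    (h'.alpha_sub_beta hG pb2)

/-- step 7: every subgroup of prime order of `E` centralizes `D`. -/
theorem D_le_centralizer_prime (hG : Cfsg.IsMinSimpleOddOrder G) (pb2 : Pb2 G)
    (h : Hyp M E X H p) {P' : Subgroup G} {t : ℕ} (ht : t.Prime) (hPE : P' ≤ E)
    (hP : Nat.card P' = t) :
    Cfsg.sigmaCore M ⊓ centralizer (X : Set G) ≤ centralizer (P' : Set G) := by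
  by_contra hDP
  obtain ⟨htH, l, EH, Y₁, h', hPEH, -, hY₁f⟩ := h.swap hG pb2 ht hPE hP hDP
  have h1 := h'.key hG pb2 htH hPEH hP
  have hlp : Fact l.Prime := ⟨h'.prime⟩
  apply ne_bot_of_card_prime h'.hX
  rw [eq_bot_iff, ← hY₁f]
  exact le_inf le_rfl (le_centralizer_iff.mp h1)

/-- step 7: `D = C_{M_σ}(E)`. -/
theorem D_le_centralizer_E (hG : Cfsg.IsMinSimpleOddOrder G) (pb2 : Pb2 G)
    (h : Hyp M E X H p) :
    Cfsg.sigmaCore M ⊓ centralizer (X : Set G) ≤ centralizer (E : Set G) := by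
  have hbot : ∀ q : ℕ, q.Prime → q ∣ Nat.card (⊥ : Subgroup G) → q ∈ Cfsg.tau1 M := by
    intro q hq hd
    rw [Subgroup.card_bot] at hd
    exact absurd (Nat.dvd_one.mp hd) hq.one_lt.ne'
  have hbot3 : ∀ q : ℕ, q.Prime → q ∣ Nat.card (⊥ : Subgroup G) → q ∈ Cfsg.tau3 M := by
    intro q hq hd
    rw [Subgroup.card_bot] at hd
    exact absurd (Nat.dvd_one.mp hd) hq.one_lt.ne'
  obtain ⟨E1, hE1, -⟩ := exists_hall_ge hG h.hM h.hE (Cfsg.tau1 M) (bot_le : (⊥ : Subgroup G) ≤ E)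
    hbot
  obtain ⟨E3, hE3, -⟩ := exists_hall_ge hG h.hM h.hE (Cfsg.tau3 M) (bot_le : (⊥ : Subgroup G) ≤ E)
    hbot3
  have hE3' : E3 ≤ ⁅E, E⁆ := ((Cfsg.Agent.S1415.result hG M h.hM E h.hE).2.2 E3 hE3).2.1
  have hD1 : Cfsg.sigmaCore M ⊓ centralizer (X : Set G) ≤ centralizer (E1 : Set G) := by
    by_contra hcon
    obtain ⟨x, hx, hxp, hxc⟩ := Cfsg.Agent.Lib.Helper2.BG139.exists_prime_not_centralizing
      (texts0 hG) (t27 hG) h.hM h.hE hE1 inf_le_left hcon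
    apply hxc
    rw [← Cfsg.Agent.Lib.Helper27.BG14.centralizer_zpowers_eq]
    exact h.D_le_centralizer_prime hG pb2 hxp (zpowers_le.mpr (hE1.1 hx)) (Nat.card_zpowers x)
  have hD3 : Cfsg.sigmaCore M ⊓ centralizer (X : Set G) ≤ centralizer (E3 : Set G) :=
    (h.D_le_centralizer_comm hG pb2).trans (centralizer_le hE3')
  exact (le_centralizer_sup hD3 hD1).trans
    (centralizer_le (compl_le_sup hG h.hM h.hE (h.tau2_empty hG pb2) hE1 hE3))

theorem D_eq_E (hG : Cfsg.IsMinSimpleOddOrder G) (pb2 : Pb2 G) (h : Hyp M E X H p) :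
    Cfsg.sigmaCore M ⊓ centralizer (X : Set G) = Cfsg.sigmaCore M ⊓ centralizer (E : Set G) :=
  le_antisymm (le_inf inf_le_left (h.D_le_centralizer_E hG pb2))
    (inf_le_inf_left _ (centralizer_le h.hXE))

/-- every subgroup of `E` of order `u ∈ τ₃(M)` satisfies the hypothesis. -/
theorem other (hG : Cfsg.IsMinSimpleOddOrder G) (pb2 : Pb2 G) (h : Hyp M E X H p)
    {X' : Subgroup G} {u : ℕ} (hu : u ∈ Cfsg.tau3 M) (hXE : X' ≤ E) (hX : Nat.card X' = u) :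
    ∃ H', Hyp M E X' H' u := by
  have hup : Fact u.Prime := ⟨hu.1⟩
  have hX1 : X' ≠ ⊥ := ne_bot_of_card_prime hX
  have hXtop : X' ≠ ⊤ := fun e => h.E_ne_top (top_le_iff.1 (e ▸ hXE))
  obtain ⟨N, hN, hNN⟩ := exists_coatom_ge (normalizer_ne_top hG hX1 hXtop)
  refine ⟨N, h.hM, h.hE, hu, hXE, hX, ?_, hN, hNN⟩
  intro e
  apply h.hD
  rw [eq_bot_iff, ← e]
  exact le_inf inf_le_left ((h.D_le_centralizer_E hG pb2).trans (centralizer_le hXE))

/-- step 6 + 8: a subgroup of `E` of order `t ∈ τ₁(M)` is central in `E`. -/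
theorem tau1_central (hG : Cfsg.IsMinSimpleOddOrder G) (pb2 : Pb2 G) (h : Hyp M E X H p)
    {P' : Subgroup G} {t : ℕ} (ht : t ∈ Cfsg.tau1 M) (hPE : P' ≤ E) (hP : Nat.card P' = t) :
    E ≤ centralizer (P' : Set G) := by
  obtain ⟨E1, hE1, hPE1⟩ := exists_hall_ge hG h.hM h.hE (Cfsg.tau1 M) hPE (by
    intro q hq hd
    rw [prime_dvd_card_prime ht.1 hP hq hd]
    exact ht)
  obtain ⟨E3, hE3, -⟩ := exists_hall_ge hG h.hM h.hE (Cfsg.tau3 M) (bot_le : (⊥ : Subgroup G) ≤ E)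
    (by
      intro q hq hd
      rw [Subgroup.card_bot] at hd
      exact absurd (Nat.dvd_one.mp hd) hq.one_lt.ne')
  have hc1 : IsCyclic E1 := (Cfsg.Agent.S1415.result hG M h.hM E h.hE).2.1 E1 hE1
  obtain ⟨hc3, -, hEE3⟩ := (Cfsg.Agent.S1415.result hG M h.hM E h.hE).2.2 E3 hE3
  have h1 : E1 ≤ centralizer (P' : Set G) := by
    intro x hx
    rw [mem_centralizer_iff]
    intro y hy
    have := comm_of_isCyclic hc1 ⟨y, hPE1 hy⟩ ⟨x, hx⟩
    exact congrArg Subtype.val this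
  have h3 : E3 ≤ centralizer (P' : Set G) := by
    by_contra hcon
    have hco : (Nat.card P').Coprime (Nat.card E3) := by
      rw [hP]
      apply (Nat.Prime.coprime_iff_not_dvd ht.1).mpr
      intro hd
      exact tau1_ne_tau3 ht (hE3.2.1 t ht.1 hd) rfl
    have hsol : Group.IsSolvable P' :=
      solvable_of_ne_top hG (fun e => h.E_ne_top (top_le_iff.1 (e ▸ hPE)))
    obtain ⟨u, hu, Y, huD, hYD, hYu, hY1, hPY, hYP⟩ :=
      exists_comm_pgroup (hPE.trans hEE3) hco (Or.inl hsol) hcon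
    have hu3 : u ∈ Cfsg.tau3 M := hE3.2.1 u hu.out huD
    have hYc : IsMulCommutative Y := by
      constructor; constructor
      intro a b
      have := comm_of_isCyclic hc3 ⟨a.1, hYD a.2⟩ ⟨b.1, hYD b.2⟩
      have h9 : (a : G) * (b : G) = (b : G) * (a : G) := congrArg Subtype.val this
      exact Subtype.ext h9
    have h4 := Cfsg.Agent.Lib.Helper69.commutator_inf_centralizer_eq_bot Y P' hYc hPY
      (Nat.Coprime.of_dvd_left (card_dvd_of_le hYD) hco.symm)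
    rw [hYP] at h4
    obtain ⟨Y₁, hY₁Y, hY₁⟩ := Cfsg.Agent.Lib.Helper58.BG13.exists_card_prime_le hYu hY1
    obtain ⟨H', h'⟩ := h.other hG pb2 hu3 ((hY₁Y.trans hYD).trans hE3.1) hY₁
    have h5 := h'.key hG pb2 ht hPE hP
    apply ne_bot_of_card_prime hY₁
    rw [eq_bot_iff, ← h4]
    exact le_inf hY₁Y (le_centralizer_iff.mp h5)
  exact (compl_le_sup hG h.hM h.hE (h.tau2_empty hG pb2) hE1 hE3).trans (sup_le h3 h1)

end Hyp

/-- the KEY in the shape `G1` of helper27. -/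
theorem g1 [Finite G] (hG : Cfsg.IsMinSimpleOddOrder G) :
    ∀ (M : Subgroup G), IsCoatom M → ∀ E, Cfsg.IsComplIn E (Cfsg.sigmaCore M) M →
      ∀ p, p ∈ Cfsg.tau3 M → ∀ X : Subgroup G, X ≤ E → Nat.card X = p →
      Cfsg.sigmaCore M ⊓ centralizer (X : Set G) ≠ ⊥ → ∀ t, t ∈ Cfsg.tau1 M →
      ∀ P : Subgroup G, P ≤ E → Nat.card P = t → P ≤ centralizer (X : Set G) := by
  intro M hM E hE p hp X hXE hX hD t ht P hPE hP
  have hpp : Fact p.Prime := ⟨hp.1⟩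
  have hX1 : X ≠ ⊥ := ne_bot_of_card_prime hX
  have hXtop : X ≠ ⊤ := fun e => compl_ne_top hM hE (top_le_iff.1 (e ▸ hXE))
  obtain ⟨N, hN, hNN⟩ := exists_coatom_ge (normalizer_ne_top hG hX1 hXtop)
  exact Hyp.key hG (pb2 hG) ⟨hM, hE, hp, hXE, hX, hD, hN, hNN⟩ ht hPE hP

/-- B-G 13.10 + 13.11: `P11`, unconditionally. -/
theorem p11 [Finite G] (hG : Cfsg.IsMinSimpleOddOrder G) : P11 G := by
  intro M hM E hE p hp X hXE hX hD
  have hpb := pb2 hG
  have hpp : Fact p.Prime := ⟨hp.1⟩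
  have hX1 : X ≠ ⊥ := ne_bot_of_card_prime hX
  have hXtop : X ≠ ⊤ := fun e => compl_ne_top hM hE (top_le_iff.1 (e ▸ hXE))
  obtain ⟨N, hN, hNN⟩ := exists_coatom_ge (normalizer_ne_top hG hX1 hXtop)
  have h : Hyp M E X N p := ⟨hM, hE, hp, hXE, hX, hD, hN, hNN⟩
  refine ⟨h.tau2_empty hG hpb, ?_⟩
  intro X' hX'E hX'p
  have hd : Nat.card X' ∣ Nat.card E := card_dvd_of_le hX'E
  have hσ := not_mem_sigma_of_dvd_compl hG hM hE hX'p hd
  rcases Cfsg.Agent.Lib.Helper58.BG13.tau_cases hG hM hX'p (hd.trans (card_dvd_of_le hE.1)) hσ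
    with h1 | h1 | h1
  · have h2 := h.tau1_central hG hpb h1 hX'E rfl
    refine ⟨h2.trans (centralizer_le_normalizer' X'), ?_⟩
    apply le_antisymm
    · have h3 := Cfsg.Agent.S1428.result hG M hM E hE _ h1 X' hX'E rfl X
        (le_inf hXE (hXE.trans h2)) (by rw [hX]; exact hp.1)
      rw [h.D_eq_E hG hpb] at h3
      exact h3
    · exact inf_le_inf_left _ (centralizer_le hX'E)
  · rw [h.tau2_empty hG hpb] at h1
    exact absurd h1 (Set.notMem_empty _)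
  · obtain ⟨H', h'⟩ := h.other hG hpb h1 hX'E rfl
    exact ⟨(h'.step0 hG).1, h'.D_eq_E hG hpb⟩

end Cfsg.Agent.Lib.Helper74.BG1311
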