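import Mathlib

set_option autoImplicit false

namespace Cfsg.Agent.Lib.Helper74

open Finset

/-- If `g ^ p = 1` and `h ^ p = 1`, `0 < i < p` with `p` prime and `g ^ i = h ^ i`, then `g = h`. -/
theorem eq_of_pow_eq_of_pow_prime {Γ : Type*} [Group Γ] {p i : ℕ} (hp : p.Prime) (hi0 : 0 < i)
    (hip : i < p) {g h : Γ} (hg : g ^ p = 1) (hh : h ^ p = 1) (hgh : g ^ i = h ^ i) : g = h := by
  have hcop : Nat.Coprime i p := (Nat.coprime_of_lt_prime hi0.ne' hip hp).symm
  obtain ⟨m, -, hm⟩ := Nat.exists_mul_mod_eq_one_of_coprime hcop hp.one_lt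
  have h1 : ∀ x : Γ, x ^ p = 1 → (x ^ i) ^ m = x := by
    intro x hx
    rw [← pow_mul, pow_eq_pow_mod _ hx, hm, pow_one]
  rw [← h1 g hg, ← h1 h hh, hgh]

/-- **The norm trick.** Let `Γ` act on the abelian group `W`, let `X ≤ Γ` be a finite subgroup
normalized by `t`, such that all elements `y t` (`y ∈ X`) have `p`-th power `1` and norm `0` on `W`.
Then `X` fixes all `|X|`-th powers in `W`. -/
theorem normTrick {Γ W : Type*} [Group Γ] [CommGroup W] (ρ : Γ →* MulAut W)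
    (X : Subgroup Γ) [Finite X] (t : Γ) (p : ℕ) (hp : p.Prime)
    (htX : ∀ y ∈ X, t * y * t⁻¹ ∈ X)
    (hpow : ∀ y ∈ X, (y * t) ^ p = 1)
    (hN : ∀ y ∈ X, ∀ w : W, ∏ i ∈ range p, ρ ((y * t) ^ i) w = 1) :
    ∀ w : W, ∀ x ∈ X, ρ x (w ^ Nat.card X) = w ^ Nat.card X := by
  classical
  let _ := Fintype.ofFinite X
  have htX' : ∀ (i : ℕ), ∀ y ∈ X, t ^ i * y * (t ^ i)⁻¹ ∈ X := by
    intro i
    induction i with
    | zero => intro y hy; simpa using hy
    | succ i ih =>
      intro y hy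
      have h1 := htX _ (ih y hy)
      have h2 : t ^ (i + 1) * y * (t ^ (i + 1))⁻¹ = t * (t ^ i * y * (t ^ i)⁻¹) * t⁻¹ := by
        rw [pow_succ']; group
      rw [h2]; exact h1
  have hf : ∀ (i : ℕ), ∀ y ∈ X, (y * t) ^ i * (t ^ i)⁻¹ ∈ X := by
    intro i
    induction i with
    | zero => intro y _; simp
    | succ i ih =>
      intro y hy
      have h2 : (y * t) ^ (i + 1) * (t ^ (i + 1))⁻¹
          = ((y * t) ^ i * (t ^ i)⁻¹) * (t ^ i * y * (t ^ i)⁻¹) := by
        rw [pow_succ, pow_succ]; group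
      rw [h2]
      exact X.mul_mem (ih y hy) (htX' i y hy)
  -- the trace map
  let T : W → W := fun w => ∏ x : X, ρ (x : Γ) w
  have hTinv : ∀ w : W, ∀ x ∈ X, ρ x (T w) = T w := by
    intro w x hx
    change ρ x (∏ y : X, ρ (y : Γ) w) = ∏ y : X, ρ (y : Γ) w
    rw [map_prod]
    refine Fintype.prod_equiv (Equiv.mulLeft (⟨x, hx⟩ : X)) _ _ ?_
    intro y
    simp [map_mul]
  have hTmul : ∀ (s : Finset ℕ) (g : ℕ → W), T (∏ i ∈ s, g i) = ∏ i ∈ s, T (g i) := by
    intro s g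
    change ∏ x : X, ρ (x : Γ) (∏ i ∈ s, g i) = ∏ i ∈ s, ∏ x : X, ρ (x : Γ) (g i)
    rw [prod_comm]
    refine prod_congr rfl fun x _ => ?_
    rw [map_prod]
  have hTinvw : ∀ w : W, T w⁻¹ = (T w)⁻¹ := by
    intro w
    change ∏ x : X, ρ (x : Γ) w⁻¹ = (∏ x : X, ρ (x : Γ) w)⁻¹
    rw [← prod_inv_distrib]
    refine prod_congr rfl fun x _ => ?_
    rw [map_inv]
  have hrow : ∀ i, 0 < i → i < p → ∀ w : W,
      ∏ y : X, ρ (((y : Γ) * t) ^ i) w = T (ρ (t ^ i) w) := by
    intro i hi0 hip w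
    let f : X → X := fun y => ⟨((y : Γ) * t) ^ i * (t ^ i)⁻¹, hf i y y.2⟩
    have hfinj : Function.Injective f := by
      intro y y' hyy
      have h1 : ((y : Γ) * t) ^ i * (t ^ i)⁻¹ = ((y' : Γ) * t) ^ i * (t ^ i)⁻¹ :=
        congrArg Subtype.val hyy
      have h2 := mul_right_cancel h1
      have h3 := eq_of_pow_eq_of_pow_prime hp hi0 hip (hpow y y.2) (hpow y' y'.2) h2
      exact Subtype.ext (mul_right_cancel h3)
    have hfbij : Function.Bijective f := Finite.injective_iff_bijective.1 hfinj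
    change _ = ∏ x : X, ρ (x : Γ) (ρ (t ^ i) w)
    rw [← hfbij.prod_comp (fun x : X => ρ (x : Γ) (ρ (t ^ i) w))]
    refine prod_congr rfl fun y _ => ?_
    change _ = ρ (((y : Γ) * t) ^ i * (t ^ i)⁻¹) (ρ (t ^ i) w)
    rw [← MulAut.mul_apply, ← map_mul, inv_mul_cancel_right]
  have hkey : ∀ w : W, T w = w ^ Nat.card X := by
    intro w
    obtain ⟨p', rfl⟩ : ∃ p', p = p' + 1 := ⟨p - 1, (Nat.succ_pred_eq_of_pos hp.pos).symm⟩
    have h1 : ∏ y : X, ∏ i ∈ range (p' + 1), ρ (((y : Γ) * t) ^ i) w = 1 :=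
      prod_eq_one fun y _ => hN y y.2 w
    rw [prod_comm, prod_range_succ'] at h1
    have h2 : ∏ i ∈ range p', ∏ y : X, ρ (((y : Γ) * t) ^ (i + 1)) w
        = T (∏ i ∈ range p', ρ (t ^ (i + 1)) w) := by
      rw [hTmul]
      refine prod_congr rfl fun i hi => ?_
      exact hrow (i + 1) (Nat.succ_pos i) (Nat.succ_lt_succ (mem_range.1 hi)) w
    have h3 : ∏ i ∈ range p', ρ (t ^ (i + 1)) w = w⁻¹ := by
      have h4 := hN 1 X.one_mem w
      rw [prod_range_succ'] at h4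
      simp only [one_mul, pow_zero, map_one, MulAut.one_apply] at h4
      exact eq_inv_of_mul_eq_one_left h4
    rw [h2, h3, hTinvw] at h1
    simp only [pow_zero, map_one, MulAut.one_apply, prod_const, card_univ] at h1
    rw [Nat.card_eq_fintype_card]
    exact (inv_mul_eq_one.1 h1)
  intro w x hx
  rw [← hkey w]
  exact hTinv w x hx

open scoped IsMulCommutative in
/-- `(w g)^n = (∏_{i<n} g^i w g^{-i}) g^n` for `g` normalizing the abelian subgroup `W ∋ w`. -/
theorem mul_pow_eq_prod_conj {G : Type*} [Group G] (W : Subgroup G) [IsMulCommutative W]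
    (g : Subgroup.normalizer (W : Set G)) (w : W) (n : ℕ) :
    ((w : G) * (g : G)) ^ n
      = ((∏ i ∈ range n, W.normalizerMonoidHom (g ^ i) w : W) : G) * (g : G) ^ n := by
  induction n with
  | zero => simp
  | succ n ih =>
    rw [pow_succ, ih, prod_range_succ, Subgroup.coe_mul, pow_succ]
    have h1 : ((W.normalizerMonoidHom (g ^ n) w : W) : G) = (g : G) ^ n * w * ((g : G) ^ n)⁻¹ := by
      rfl
    rw [h1]
    group

open scoped IsMulCommutative in
/-- The norm trick inside a group: `W` abelian, normalized by `X` and `t`; `t` normalizes `X`;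
all elements `w y t` have `p`-th power `1`.  Then `X` centralizes the `|X|`-th powers of `W`. -/
theorem normTrick_internal {G : Type*} [Group G] (W X : Subgroup G) [Finite X] (t : G) (p : ℕ)
    (hp : p.Prime) (hW : ∀ a ∈ W, ∀ b ∈ W, a * b = b * a)
    (hXW : X ≤ Subgroup.normalizer (W : Set G)) (htW : t ∈ Subgroup.normalizer (W : Set G))
    (htX : ∀ y ∈ X, t * y * t⁻¹ ∈ X)
    (h : ∀ w ∈ W, ∀ y ∈ X, (w * (y * t)) ^ p = 1) :
    ∀ w ∈ W, ∀ x ∈ X, x * w ^ Nat.card X * x⁻¹ = w ^ Nat.card X := by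
  have : IsMulCommutative W := ⟨⟨fun a b => Subtype.ext (hW a a.2 b b.2)⟩⟩
  set L := Subgroup.normalizer (W : Set G) with hL
  let X' : Subgroup L := X.subgroupOf L
  have hcard : Nat.card X' = Nat.card X :=
    Nat.card_congr (Subgroup.subgroupOfEquivOfLe hXW).toEquiv
  have : Finite X' := Nat.finite_of_card_ne_zero (by rw [hcard]; exact Nat.card_pos.ne')
  let t' : L := ⟨t, htW⟩
  have hpow : ∀ y ∈ X', (y * t') ^ p = 1 := by
    intro y hy
    apply Subtype.ext
    have := h 1 W.one_mem y (Subgroup.mem_subgroupOf.1 hy)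
    rw [one_mul] at this
    simpa using this
  have hN : ∀ y ∈ X', ∀ w : W, ∏ i ∈ range p, W.normalizerMonoidHom ((y * t') ^ i) w = 1 := by
    intro y hy w
    have h1 := mul_pow_eq_prod_conj W (y * t') w p
    have h2 : ((y * t' : L) : G) ^ p = 1 := by
      have := congrArg Subtype.val (hpow y hy)
      simpa using this
    have h3 : ((w : G) * ((y * t' : L) : G)) ^ p = 1 := h w w.2 y (Subgroup.mem_subgroupOf.1 hy)
    rw [h2, h3, mul_one] at h1
    exact Subtype.ext h1.symm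
  have key := normTrick W.normalizerMonoidHom X' t' p hp (by
    intro y hy
    exact Subgroup.mem_subgroupOf.2 (htX y (Subgroup.mem_subgroupOf.1 hy))) hpow hN
  intro w hw x hx
  have h1 := key ⟨w, hw⟩ ⟨x, hXW hx⟩ (Subgroup.mem_subgroupOf.2 hx)
  rw [hcard] at h1
  have h2 := congrArg Subtype.val h1
  simpa using h2

/-- Coprime form of the norm trick: `X` centralizes `W`. -/
theorem commute_of_normTrick {G : Type*} [Group G] (W X : Subgroup G) [Finite X] (t : G) (p : ℕ)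
    (hp : p.Prime) (hW : ∀ a ∈ W, ∀ b ∈ W, a * b = b * a)
    (hXW : X ≤ Subgroup.normalizer (W : Set G)) (htW : t ∈ Subgroup.normalizer (W : Set G))
    (htX : ∀ y ∈ X, t * y * t⁻¹ ∈ X)
    (h : ∀ w ∈ W, ∀ y ∈ X, (w * (y * t)) ^ p = 1)
    (hcop : ∀ w ∈ W, (Nat.card X).Coprime (orderOf w)) :
    ∀ w ∈ W, ∀ x ∈ X, x * w = w * x := by
  intro w hw x hx
  have h1 := normTrick_internal W X t p hp hW hXW htW htX h w hw x hx
  obtain ⟨m, hm⟩ := exists_pow_eq_self_of_coprime (hcop w hw)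
  have h2 : x * w * x⁻¹ = w := by
    conv_lhs => rw [← hm]
    rw [← conj_pow, h1, hm]
  rw [mul_inv_eq_iff_eq_mul] at h2
  exact h2

end Cfsg.Agent.Lib.Helper74
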