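import Cfsg.Agent.Lib.Helper74.NilAux
import Cfsg.Agent.Lib.Helper74.NormTrick

set_option autoImplicit false

namespace Cfsg.Agent.Lib.Helper74

open Cfsg.Agent.Lib.Helper31 Cfsg.Agent.Lib.Helper77

/-- `H` is a proper normal subgroup outside of which all elements have `p`-th power `1`. -/
structure HP (p : ℕ) {G : Type*} [Group G] (H : Subgroup G) : Prop where
  normal : H.Normal
  ne_top : H ≠ ⊤
  pow : ∀ g, g ∉ H → g ^ p = 1

theorem eq_one_of_pow_pow {G : Type*} [Group G] {a b : ℕ} (hab : a.Coprime b) {x : G} {i j : ℕ}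
    (h1 : x ^ a ^ i = 1) (h2 : x ^ b ^ j = 1) : x = 1 := by
  rw [← orderOf_eq_one_iff]
  exact Nat.eq_one_of_dvd_coprimes (Nat.Coprime.pow i j hab) (orderOf_dvd_of_pow_eq_one h1)
    (orderOf_dvd_of_pow_eq_one h2)

theorem HP.mem_of_pow {p : ℕ} {G : Type*} [Group G] {H : Subgroup G} (h : HP p H) {q : ℕ}
    (hqp : q.Coprime p) {y : G} {k : ℕ} (hy : y ^ q ^ k = 1) : y ∈ H := by
  by_contra hc
  have h1 := h.pow y hc
  have : y = 1 := eq_one_of_pow_pow (i := k) (j := 1) hqp hy (by rwa [pow_one])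
  exact hc (this ▸ H.one_mem)

theorem HP.isPGroup_quotient {p : ℕ} {G : Type*} [Group G] {H : Subgroup G} (h : HP p H)
    [H.Normal] : ∀ x : G ⧸ H, x ^ p = 1 := by
  intro x
  obtain ⟨g, rfl⟩ := QuotientGroup.mk'_surjective H x
  by_cases hg : g ∈ H
  · have : QuotientGroup.mk' H g = 1 := (QuotientGroup.eq_one_iff g).2 hg
    rw [this, one_pow]
  · rw [← map_pow, h.pow g hg, map_one]

/-- **Hughes–Thompson**: if `G` is not a `p`-group, then `H` has index `p`. -/
theorem HP.index_eq {p : ℕ} (hp : p.Prime) {G : Type*} [Group G] [Finite G] {H : Subgroup G}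
    (h : HP p H) (hG : ¬ IsPGroup p G) : H.index = p := by
  have : Fact p.Prime := ⟨hp⟩
  have hHn : H.Normal := h.normal
  -- a prime `q ≠ p`
  obtain ⟨q, hq, hqp, hqG⟩ : ∃ q : ℕ, q.Prime ∧ q ≠ p ∧ q ∣ Nat.card G := by
    by_contra hcon
    push Not at hcon
    apply hG
    exact IsPGroup.of_card (Nat.eq_prime_pow_of_unique_prime_dvd Nat.card_pos.ne'
      (fun {d} hd hdd => by
        by_contra hne
        exact hcon d hd hne hdd))
  have : Fact q.Prime := ⟨hq⟩
  have hcop : q.Coprime p := (Nat.coprime_primes hq hp).2 hqp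
  obtain ⟨Q⟩ : Nonempty (Sylow q G) := inferInstance
  have hQH : (Q : Subgroup G) ≤ H := by
    intro y hy
    obtain ⟨k, hk⟩ := Q.2 ⟨y, hy⟩
    exact h.mem_of_pow hcop (k := k) (by simpa using congrArg Subtype.val hk)
  have hQne : (Q : Subgroup G) ≠ ⊥ := Q.ne_bot_of_dvd_card hqG
  -- the centre of `Q`
  set W : Subgroup G := (Q : Subgroup G) ⊓ Subgroup.centralizer ((Q : Subgroup G) : Set G) with hW
  have hWmem : ∀ w, w ∈ W ↔ w ∈ (Q : Subgroup G) ∧ ∀ y ∈ (Q : Subgroup G), y * w = w * y := by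
    intro w
    rw [hW, Subgroup.mem_inf, Subgroup.mem_centralizer_iff]
    rfl
  have hWab : ∀ a ∈ W, ∀ b ∈ W, a * b = b * a := by
    intro a ha b hb
    exact ((hWmem b).1 hb).2 a ((hWmem a).1 ha).1
  have hWne : ∃ w ∈ W, w ≠ 1 := by
    have : Nontrivial (Q : Subgroup G) := (Subgroup.nontrivial_iff_ne_bot _).2 hQne
    have hc : Nontrivial (Subgroup.center (Q : Subgroup G)) := Q.2.center_nontrivial
    obtain ⟨c, hc1⟩ := exists_ne (1 : Subgroup.center (Q : Subgroup G))
    refine ⟨((c : (Q : Subgroup G)) : G), (hWmem _).2 ⟨(c : (Q : Subgroup G)).2, ?_⟩, ?_⟩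
    · intro y hy
      have := Subgroup.mem_center_iff.1 c.2 ⟨y, hy⟩
      exact congrArg Subtype.val this
    · intro h1
      apply hc1
      apply Subtype.ext
      apply Subtype.ext
      exact h1
  have hWq : ∀ w ∈ W, ∃ k : ℕ, w ^ q ^ k = 1 := by
    intro w hw
    obtain ⟨k, hk⟩ := Q.2 ⟨w, ((hWmem w).1 hw).1⟩
    exact ⟨k, by simpa using congrArg Subtype.val hk⟩
  have hWH : W ≤ H := inf_le_left.trans hQH
  set N : Subgroup G := Subgroup.normalizer ((Q : Subgroup G) : Set G) with hN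
  have hNW : N ≤ Subgroup.normalizer (W : Set G) := by
    intro g hg
    rw [hN, Subgroup.mem_normalizer_iff] at hg
    have hg' : ∀ x, x ∈ (Q : Subgroup G) ↔ g⁻¹ * x * g ∈ (Q : Subgroup G) := by
      intro x
      rw [hg (g⁻¹ * x * g)]
      have : g * (g⁻¹ * x * g) * g⁻¹ = x := by group
      rw [this]
    have key : ∀ (g : G), (∀ x, x ∈ (Q : Subgroup G) ↔ g * x * g⁻¹ ∈ (Q : Subgroup G)) →
        (∀ x, x ∈ (Q : Subgroup G) ↔ g⁻¹ * x * g ∈ (Q : Subgroup G)) →
        ∀ w ∈ W, g * w * g⁻¹ ∈ W := by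
      intro g h1 h2 w hw
      obtain ⟨hw1, hw2⟩ := (hWmem w).1 hw
      refine (hWmem _).2 ⟨(h1 w).1 hw1, fun y hy => ?_⟩
      have h3 := hw2 _ ((h2 y).1 hy)
      calc y * (g * w * g⁻¹) = g * ((g⁻¹ * y * g) * w) * g⁻¹ := by group
        _ = g * (w * (g⁻¹ * y * g)) * g⁻¹ := by rw [h3]
        _ = g * w * g⁻¹ * y := by group
    rw [Subgroup.mem_normalizer_iff]
    intro w
    constructor
    · exact key g hg hg' w
    · intro hw
      have h3 := key g⁻¹ (by simpa using hg') (by simpa using hg) _ hw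
      have h4 : g⁻¹ * (g * w * g⁻¹) * g⁻¹⁻¹ = w := by group
      rwa [h4] at h3
  have hfrat : N ⊔ H = ⊤ := Sylow.normalizer_sup_eq_top' Q hQH
  -- a `p`-subgroup of `N` covering `G / H`
  obtain ⟨P1⟩ : Nonempty (Sylow p N) := inferInstance
  set R : Subgroup G := (P1 : Subgroup N).map N.subtype with hR
  have hRp : IsPGroup p R := P1.2.map _
  have hRN : R ≤ N := by
    rintro _ ⟨x, _, rfl⟩; exact x.2
  have hquotp : IsPGroup p (G ⧸ H) := fun x => ⟨1, by rw [pow_one]; exact h.isPGroup_quotient x⟩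
  have hcover : ∀ x : G ⧸ H, ∃ s ∈ R, QuotientGroup.mk' H s = x := by
    let ψ : N →* G ⧸ H := (QuotientGroup.mk' H).comp N.subtype
    have hψ : Function.Surjective ψ := by
      intro x
      obtain ⟨g, rfl⟩ := QuotientGroup.mk'_surjective H x
      have hg : g ∈ N ⊔ H := by rw [hfrat]; trivial
      rw [Subgroup.mem_sup_of_normal_right] at hg
      obtain ⟨n, hn, y, hy, rfl⟩ := hg
      refine ⟨⟨n, hn⟩, ?_⟩
      change QuotientGroup.mk' H n = QuotientGroup.mk' H (n * y)
      have hy1 : QuotientGroup.mk' H y = 1 := (QuotientGroup.eq_one_iff y).2 hy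
      rw [map_mul, hy1, mul_one]
    have htop : ((P1.mapSurjective hψ : Sylow p (G ⧸ H)) : Subgroup (G ⧸ H)) = ⊤ := by
      have h1 : IsPGroup p (⊤ : Subgroup (G ⧸ H)) := hquotp.to_subgroup _
      exact ((P1.mapSurjective hψ).3 h1 le_top).symm
    intro x
    have hx : x ∈ ((P1.mapSurjective hψ : Sylow p (G ⧸ H)) : Subgroup (G ⧸ H)) := by
      rw [htop]; trivial
    obtain ⟨s, hs, rfl⟩ := hx
    exact ⟨s, ⟨s, hs, rfl⟩, rfl⟩
  -- a central element of `G / H`
  obtain ⟨g0, hg0⟩ : ∃ g, g ∉ H := by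
    by_contra hcon
    push Not at hcon
    exact h.ne_top (eq_top_iff.2 fun x _ => hcon x)
  have hnt : Nontrivial (G ⧸ H) :=
    ⟨⟨QuotientGroup.mk' H g0, 1, fun hc => hg0 ((QuotientGroup.eq_one_iff g0).1 hc)⟩⟩
  have hcn : Nontrivial (Subgroup.center (G ⧸ H)) := hquotp.center_nontrivial
  obtain ⟨c, hc1⟩ := exists_ne (1 : Subgroup.center (G ⧸ H))
  set zb : G ⧸ H := c.1 with hzb
  have hzb1 : zb ≠ 1 := fun hh => hc1 (Subtype.ext hh)
  have hzbc : ∀ x, x * zb = zb * x := fun x => Subgroup.mem_center_iff.1 c.2 x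
  have hzbo : orderOf zb = p := orderOf_eq_prime (h.isPGroup_quotient zb) hzb1
  have hZn : (Subgroup.zpowers zb).Normal := by
    refine ⟨fun z hz x => ?_⟩
    obtain ⟨i, rfl⟩ := Subgroup.mem_zpowers_iff.1 hz
    have : Commute x (zb ^ i) := Commute.zpow_right (hzbc x) i
    rw [this.eq, mul_inv_cancel_right]
    exact hz
  set M : Subgroup G := (Subgroup.zpowers zb).comap (QuotientGroup.mk' H) with hM
  have hMn : M.Normal := inferInstance
  have hHM : H ≤ M := by
    intro y hy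
    rw [hM, Subgroup.mem_comap]
    have hy1 : QuotientGroup.mk' H y = 1 := (QuotientGroup.eq_one_iff y).2 hy
    rw [hy1]
    exact Subgroup.one_mem _
  by_cases hMtop : M = ⊤
  · have h1 : Subgroup.zpowers zb = ⊤ := by
      rw [eq_top_iff]
      intro x _
      obtain ⟨g, rfl⟩ := QuotientGroup.mk'_surjective H x
      have : g ∈ M := by rw [hMtop]; trivial
      exact this
    rw [Subgroup.index_eq_card, ← Subgroup.card_top (G := G ⧸ H), ← h1, Nat.card_zpowers, hzbo]
  · exfalso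
    obtain ⟨g1, hg1⟩ : ∃ g, g ∉ M := by
      by_contra hcon
      push Not at hcon
      exact hMtop (eq_top_iff.2 fun x _ => hcon x)
    obtain ⟨t, htR, ht⟩ := hcover (QuotientGroup.mk' H g1)
    have htM : t ∉ M := by
      intro hc
      apply hg1
      change QuotientGroup.mk' H g1 ∈ Subgroup.zpowers zb
      rw [← ht]
      exact hc
    set X : Subgroup G := R ⊓ M with hX
    have hXp : IsPGroup p X := hRp.to_le inf_le_left
    obtain ⟨a, ha⟩ := IsPGroup.iff_card.1 hXp
    have hcent := commute_of_normTrick W X t p hp hWab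
      ((inf_le_left.trans hRN).trans hNW) (hNW (hRN htR))
      (fun y hy => ⟨R.mul_mem (R.mul_mem htR hy.1) (R.inv_mem htR), hMn.conj_mem y hy.2 t⟩)
      (fun w hw y hy => by
        apply h.pow
        intro hc
        apply htM
        have h1 : w * (y * t) ∈ M := hHM hc
        have h2 : (w * y)⁻¹ * (w * (y * t)) ∈ M :=
          M.mul_mem (M.inv_mem (M.mul_mem (hHM (hWH hw)) hy.2)) h1
        have h3 : (w * y)⁻¹ * (w * (y * t)) = t := by group
        rwa [h3] at h2)
      (fun w hw => by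
        obtain ⟨k, hk⟩ := hWq w hw
        rw [ha]
        exact Nat.Coprime.coprime_dvd_right (orderOf_dvd_of_pow_eq_one hk)
          (Nat.Coprime.pow a k hcop.symm))
    obtain ⟨s, hsR, hs⟩ := hcover zb
    have hsM : s ∈ M := by
      change QuotientGroup.mk' H s ∈ Subgroup.zpowers zb
      rw [hs]
      exact Subgroup.mem_zpowers zb
    have hsH : s ∉ H := by
      intro hc
      apply hzb1
      rw [← hs]
      exact (QuotientGroup.eq_one_iff s).2 hc
    obtain ⟨w, hw, hw1⟩ := hWne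
    have hsw : s * w = w * s := hcent w hw s ⟨hsR, hsM⟩
    have hswH : s * w ∉ H := by
      intro hc
      apply hsH
      have := H.mul_mem hc (H.inv_mem (hWH hw))
      rwa [mul_inv_cancel_right] at this
    have h1 := h.pow _ hswH
    rw [(show Commute s w from hsw).mul_pow, h.pow s hsH, one_mul] at h1
    obtain ⟨k, hk⟩ := hWq w hw
    exact hw1 (eq_one_of_pow_pow (i := k) (j := 1) hcop hk (by rwa [pow_one]))

end Cfsg.Agent.Lib.Helper74
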