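import Cfsg.Agent.Lib.Helper74.Hughes
import Cfsg.Agent.Lib.Helper15.ZJBridge
import Cfsg.Agent.Lib.Helper15.ZJLocal
import Cfsg.Agent.S0144

set_option autoImplicit false

namespace Cfsg.Agent.Lib.Helper74

open Cfsg.Agent.Lib.Helper31 Cfsg.Agent.Lib.Helper77 Cfsg.Agent.Lib.Helper15.ZJ

universe u

/-- The solvable case of Kegel's theorem, in a minimal situation. -/
theorem HP.isNilpotent_of_isSolvable {p : ℕ} (hp : p.Prime) {G : Type*} [Group G] [Finite G]
    {H : Subgroup G} (h : HP p H) (hsol : Group.IsSolvable H)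
    (hquo : ∀ (N : Subgroup G) [N.Normal], N ≠ ⊥ → N ≤ H →
      Group.IsNilpotent ↥(H.map (QuotientGroup.mk' N)))
    (hinter : ∀ (N1 N2 : Subgroup G), N1.Normal → N2.Normal → N1 ≠ ⊥ → N2 ≠ ⊥ → N1 ≤ H → N2 ≤ H →
      N1 ⊓ N2 ≠ ⊥) : Group.IsNilpotent H := by
  have hHn : H.Normal := h.normal
  by_cases hH : H = ⊥
  · subst hH
    infer_instance
  obtain ⟨r, N, hr, hNn, hNne, hNH, hNab, hNr⟩ := exists_normal_elemAbelian_le H hH hsol
  have : Fact r.Prime := ⟨hr⟩
  by_cases hHr : IsPGroup r H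
  · exact hHr.isNilpotent
  exfalso
  obtain ⟨q, hq, hqr, hqH⟩ : ∃ q : ℕ, q.Prime ∧ q ≠ r ∧ q ∣ Nat.card H := by
    by_contra hcon
    push Not at hcon
    apply hHr
    exact IsPGroup.of_card (Nat.eq_prime_pow_of_unique_prime_dvd Nat.card_pos.ne'
      (fun {d} hd hdd => by
        by_contra hne
        exact hcon d hd hne hdd))
  have : Fact q.Prime := ⟨hq⟩
  have hcop : q.Coprime r := (Nat.coprime_primes hq hr).2 hqr
  obtain ⟨Hq⟩ : Nonempty (Sylow q H) := inferInstance
  set Q : Subgroup G := (Hq : Subgroup H).map H.subtype with hQ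
  have hQH : Q ≤ H := by
    rintro _ ⟨x, _, rfl⟩; exact x.2
  have hQp : IsPGroup q Q := Hq.2.map _
  have hQne : Q ≠ ⊥ := by
    intro hc
    exact Hq.ne_bot_of_dvd_card hqH ((Subgroup.map_eq_bot_iff_of_injective _ H.subtype_injective).1 hc)
  have hfrat : Subgroup.normalizer (Q : Set G) ⊔ H = ⊤ := Sylow.normalizer_sup_eq_top Hq
  obtain ⟨t, htQ, htH⟩ : ∃ t ∈ Subgroup.normalizer (Q : Set G), t ∉ H := by
    by_contra hcon
    push Not at hcon
    apply h.ne_top
    rw [← hfrat]
    exact (sup_eq_right.2 hcon).symm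
  obtain ⟨a, ha⟩ := IsPGroup.iff_card.1 hQp
  have hcent := commute_of_normTrick N Q t p hp hNab
    (by rw [Subgroup.normalizer_eq_top]; exact le_top)
    (by rw [Subgroup.normalizer_eq_top]; trivial)
    (fun y hy => (Subgroup.mem_normalizer_iff.1 htQ y).1 hy)
    (fun w hw y hy => by
      apply h.pow
      intro hc
      apply htH
      have h2 : (w * y)⁻¹ * (w * (y * t)) ∈ H :=
        H.mul_mem (H.inv_mem (H.mul_mem (hNH hw) (hQH hy))) hc
      have h3 : (w * y)⁻¹ * (w * (y * t)) = t := by group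
      rwa [h3] at h2)
    (fun w hw => by
      rw [ha]
      exact Nat.Coprime.coprime_dvd_right (orderOf_dvd_of_pow_eq_one (hNr w hw))
        (Nat.Coprime.pow_left a hcop))
  -- `Q` is normal in `G`
  have hnilq := hquo N hNne hNH
  let φ : H →* ↥(H.map (QuotientGroup.mk' N)) := (QuotientGroup.mk' N).subgroupMap H
  have hφ : Function.Surjective φ := (QuotientGroup.mk' N).subgroupMap_surjective H
  let Qb : Sylow q ↥(H.map (QuotientGroup.mk' N)) := Hq.mapSurjective hφ
  have hQbn : (Qb : Subgroup ↥(H.map (QuotientGroup.mk' N))).Normal := inferInstance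
  have hQn : Q.Normal := by
    refine ⟨fun y hy g => ?_⟩
    have hy'H : g * y * g⁻¹ ∈ H := hHn.conj_mem y (hQH hy) g
    obtain ⟨k, hk⟩ := hQp ⟨y, hy⟩
    have hk' : y ^ q ^ k = 1 := by simpa using congrArg Subtype.val hk
    have hy'k : (g * y * g⁻¹) ^ q ^ k = 1 := by rw [conj_pow, hk']; group
    have hmem : φ ⟨g * y * g⁻¹, hy'H⟩ ∈ (Qb : Subgroup ↥(H.map (QuotientGroup.mk' N))) := by
      have hz : IsPGroup q (Subgroup.zpowers (φ ⟨g * y * g⁻¹, hy'H⟩)) := by
        have h1 : (φ ⟨g * y * g⁻¹, hy'H⟩) ^ q ^ k = 1 := by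
          rw [← map_pow]
          have : (⟨g * y * g⁻¹, hy'H⟩ : H) ^ q ^ k = 1 := Subtype.ext (by simpa using hy'k)
          rw [this, map_one]
        obtain ⟨j, _, hj⟩ := (Nat.dvd_prime_pow hq).1 (orderOf_dvd_of_pow_eq_one h1)
        exact IsPGroup.of_card (n := j) (by rw [Nat.card_zpowers, hj])
      obtain ⟨S, hS⟩ := hz.exists_le_sylow
      have := Sylow.unique_of_normal Qb hQbn
      have hSQ : S = Qb := Subsingleton.elim _ _
      rw [← hSQ]
      exact hS (Subgroup.mem_zpowers _)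
    obtain ⟨y2, hy2, hy2e⟩ := hmem
    have hy2Q : (y2 : G) ∈ Q := ⟨y2, hy2, rfl⟩
    have he : QuotientGroup.mk' N (y2 : G) = QuotientGroup.mk' N (g * y * g⁻¹) :=
      congrArg Subtype.val hy2e
    have hn : (y2 : G)⁻¹ * (g * y * g⁻¹) ∈ N := QuotientGroup.eq.1 he
    set n := (y2 : G)⁻¹ * (g * y * g⁻¹) with hndef
    have hcomm : Commute (y2 : G) n := hcent n hn _ hy2Q
    have hprod : g * y * g⁻¹ = (y2 : G) * n := by rw [hndef]; group
    obtain ⟨j, hj⟩ := hQp ⟨y2, hy2Q⟩
    have hj' : (y2 : G) ^ q ^ j = 1 := by simpa using congrArg Subtype.val hj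
    have hn1 : n ^ q ^ (k + j) = 1 := by
      have h1 : ((y2 : G) * n) ^ q ^ (k + j) = 1 := by
        rw [← hprod, pow_add, pow_mul, hy'k, one_pow]
      have h2 : (y2 : G) ^ q ^ (k + j) = 1 := by
        rw [pow_add, mul_comm, pow_mul, hj', one_pow]
      rw [hcomm.mul_pow, h2, one_mul] at h1
      exact h1
    have hn2 : n = 1 := eq_one_of_pow_pow (i := k + j) (j := 1) hcop hn1
      (by rw [pow_one]; exact hNr n hn)
    rw [hprod, hn2, mul_one]
    exact hy2Q
  have h1 := hinter N Q hNn hQn hNne hQne hNH hQH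
  apply h1
  rw [eq_bot_iff]
  intro x hx
  obtain ⟨k, hk⟩ := hQp ⟨x, hx.2⟩
  have hk' : x ^ q ^ k = 1 := by simpa using congrArg Subtype.val hk
  rw [Subgroup.mem_bot]
  exact eq_one_of_pow_pow (i := k) (j := 1) hcop hk' (by rw [pow_one]; exact hNr x hx.1)

/-- The Glauberman–Thompson normal complement theorem as a hypothesis (in universe `u`). -/
def GTHyp : Prop :=
  ∀ (G : Type u) [Group G] [Finite G] (q : ℕ) [Fact q.Prime], q ≠ 2 → ∀ P : Sylow q G,
    Cfsg.HasNormalPComplement q
      ↥(Subgroup.normalizer (Cfsg.centerThompsonAOf (P : Subgroup G) : Set G)) →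
    Cfsg.HasNormalPComplement q G

theorem mem_normalizer_map_subtype {G : Type*} [Group G] {H : Subgroup G} {Z : Subgroup H} {x : H}
    (hx : x ∈ Subgroup.normalizer (Z : Set H)) :
    (x : G) ∈ Subgroup.normalizer ((Z.map H.subtype : Subgroup G) : Set G) := by
  rw [Subgroup.mem_normalizer_iff] at hx ⊢
  intro y
  constructor
  · rintro ⟨z, hz, rfl⟩
    exact ⟨x * z * x⁻¹, (hx z).1 hz, by simp⟩
  · rintro ⟨z, hz, hzy⟩
    have hz2 : z = x * (x⁻¹ * z * x) * x⁻¹ := by group
    rw [SetLike.mem_coe, hz2] at hz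
    refine ⟨x⁻¹ * z * x, (hx _).2 hz, ?_⟩
    simp only [Subgroup.subtype_apply, Subgroup.coe_mul, Subgroup.coe_inv] at hzy ⊢
    rw [hzy]; group

/-- Solvability in the minimal situation of Kegel's theorem. -/
theorem HP.isSolvable (hGT : GTHyp.{u}) {p : ℕ} (hp : p.Prime) {G : Type u} [Group G] [Finite G]
    {H : Subgroup G} (h : HP p H)
    (hsub : ∀ L : Subgroup G, L ≠ ⊤ → ¬ L ≤ H → Group.IsNilpotent ↥(H ⊓ L))
    (hquo : ∀ (N : Subgroup G) [N.Normal], N ≠ ⊥ → N ≤ H →
      Group.IsNilpotent ↥(H.map (QuotientGroup.mk' N))) : Group.IsSolvable H := by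
  have hHn : H.Normal := h.normal
  have : Fact p.Prime := ⟨hp⟩
  by_cases hex : ∃ q : ℕ, q.Prime ∧ q ≠ 2 ∧ q ≠ p ∧ q ∣ Nat.card H
  · obtain ⟨q, hq, hq2, hqp, hqH⟩ := hex
    have : Fact q.Prime := ⟨hq⟩
    obtain ⟨Hq⟩ : Nonempty (Sylow q H) := inferInstance
    set Q : Subgroup G := (Hq : Subgroup H).map H.subtype with hQ
    have hQH : Q ≤ H := by
      rintro _ ⟨x, _, rfl⟩; exact x.2
    have hQp : IsPGroup q Q := Hq.2.map _
    have hQne : Q ≠ ⊥ := by
      intro hc
      exact Hq.ne_bot_of_dvd_card hqH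
        ((Subgroup.map_eq_bot_iff_of_injective _ H.subtype_injective).1 hc)
    have hfrat : Subgroup.normalizer (Q : Set G) ⊔ H = ⊤ := Sylow.normalizer_sup_eq_top Hq
    set Z : Subgroup G := ZE 0 Q with hZ
    have hZmap : (Cfsg.centerThompsonAOf (Hq : Subgroup H)).map H.subtype = Z := by
      rw [centerThompsonAOf_eq, hZ, hQ, ZE_map H.subtype H.subtype_injective.injOn]
    have hZQ : Z ≤ Q := ZE_le 0 Q
    have hZne : Z ≠ ⊥ := ZE_ne_bot (dvd_zero q) hQp hQne
    set L := Subgroup.normalizer (Z : Set G) with hL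
    have hNL : Subgroup.normalizer (Q : Set G) ≤ L := normalizer_le_normalizer_ZE 0 Q
    have hLH : ¬ L ≤ H := by
      intro hc
      apply h.ne_top
      rw [← hfrat]
      exact (sup_eq_right.2 (hNL.trans hc)).symm
    by_cases hLtop : L = ⊤
    · have hZn : Z.Normal := Subgroup.normalizer_eq_top_iff.1 hLtop
      have hn := hquo Z hZne (hZQ.trans hQH)
      have s1 : Group.IsSolvable ↥(H.map (QuotientGroup.mk' Z)) := inferInstance
      have s2 : Group.IsSolvable Z := by
        have : Group.IsNilpotent Z := (hQp.to_le hZQ).isNilpotent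
        infer_instance
      refine Group.isSolvable_of_ker_le_range (Subgroup.inclusion (hZQ.trans hQH))
        ((QuotientGroup.mk' Z).subgroupMap H) ?_
      intro x hx
      rw [MonoidHom.mem_ker] at hx
      have h1 : QuotientGroup.mk' Z (x : G) = 1 := congrArg Subtype.val hx
      have h2 : (x : G) ∈ Z := (QuotientGroup.eq_one_iff _).1 h1
      exact ⟨⟨x, h2⟩, rfl⟩
    · have hn := hsub L hLtop hLH
      have hnilN : Group.IsNilpotent
          ↥(Subgroup.normalizer (Cfsg.centerThompsonAOf (Hq : Subgroup H) : Set H)) := by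
        refine isNilpotent_of_injective
          ((H.subtype.comp (Subgroup.subtype _)).codRestrict (H ⊓ L) (fun x => ⟨x.1.2, ?_⟩)) ?_ hn
        · have := mem_normalizer_map_subtype x.2
          rw [hZmap] at this
          exact this
        · intro x y hxy
          have h1 : ((x : H) : G) = ((y : H) : G) := congrArg (fun z : ↥(H ⊓ L) => (z : G)) hxy
          exact Subtype.ext (Subtype.ext h1)
      have hnpcN : Cfsg.HasNormalPComplement q
          ↥(Subgroup.normalizer (Cfsg.centerThompsonAOf (Hq : Subgroup H) : Set H)) :=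
        hasNormalPComplement_iff_npc.2 npc_of_isNilpotent
      obtain ⟨T, hTn, hTc, k, hk⟩ := hasNormalPComplement_iff_npc.1 (hGT H q hq2 Hq hnpcN)
      set T' : Subgroup G := T.map H.subtype with hT'
      have hT'H : T' ≤ H := by
        rintro _ ⟨x, _, rfl⟩; exact x.2
      have hT'n : T'.Normal := by
        refine ⟨?_⟩
        rintro _ ⟨τ, hτ, rfl⟩ g
        have hmem : g * (τ : G) * g⁻¹ ∈ H := hHn.conj_mem _ τ.2 g
        refine ⟨⟨g * (τ : G) * g⁻¹, hmem⟩, ?_, rfl⟩
        apply mem_of_coprime_of_index_pow T hk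
        have h1 : orderOf (⟨g * (τ : G) * g⁻¹, hmem⟩ : H) = orderOf τ := by
          rw [← Subgroup.orderOf_coe, ← Subgroup.orderOf_coe]
          exact (MulAut.conj g).orderOf_eq (τ : G)
        rw [h1]
        exact Nat.Coprime.coprime_dvd_left (Subgroup.orderOf_dvd_natCard T hτ) hTc
      obtain ⟨x0, hx0⟩ : ∃ g, g ∉ H := by
        by_contra hcon
        push Not at hcon
        exact h.ne_top (eq_top_iff.2 fun x _ => hcon x)
      have hx01 : x0 ≠ 1 := fun hc => hx0 (hc ▸ H.one_mem)
      have hx0o : orderOf x0 = p := orderOf_eq_prime (h.pow x0 hx0) hx01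
      have hL'H : ¬ T' ⊔ Subgroup.zpowers x0 ≤ H := fun hc =>
        hx0 (hc (Subgroup.mem_sup_right (Subgroup.mem_zpowers x0)))
      have hL'top : T' ⊔ Subgroup.zpowers x0 ≠ ⊤ := by
        intro hc
        obtain ⟨y, hy⟩ := exists_prime_orderOf_dvd_card' q hqH
        have hyG : (y : G) ∈ T' ⊔ Subgroup.zpowers x0 := by rw [hc]; trivial
        rw [Subgroup.mem_sup_of_normal_left] at hyG
        obtain ⟨τ, hτ, z, hz, hτz⟩ := hyG
        have hzH : z ∈ H := by
          have := H.mul_mem (H.inv_mem (hT'H hτ)) y.2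
          rw [← hτz] at this
          simpa using this
        have hz1 : z = 1 := by
          by_contra hz1
          have hzo : orderOf z = p := by
            have h1 : orderOf z ∣ p := hx0o ▸ orderOf_dvd_of_mem_zpowers hz
            exact ((Nat.dvd_prime hp).1 h1).resolve_left (fun h => hz1 (orderOf_eq_one_iff.1 h))
          have hzg : Subgroup.zpowers z = Subgroup.zpowers x0 := by
            apply Subgroup.eq_of_le_of_card_ge
            · rwa [Subgroup.zpowers_le]
            · rw [Nat.card_zpowers, Nat.card_zpowers, hzo, hx0o]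
          apply hx0
          have h2 : Subgroup.zpowers z ≤ H := by rwa [Subgroup.zpowers_le]
          exact h2 (hzg ▸ Subgroup.mem_zpowers x0)
        rw [hz1, mul_one] at hτz
        obtain ⟨τ', hτ', hτe⟩ := hτ
        have hyT : y ∈ T := by
          have : τ' = y := Subtype.ext (hτe.trans hτz)
          exact this ▸ hτ'
        have h3 : q ∣ Nat.card T := hy ▸ Subgroup.orderOf_dvd_natCard T hyT
        exact hq.one_lt.ne' (Nat.Coprime.eq_one_of_dvd hTc.symm h3)
      have hn' := hsub _ hL'top hL'H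
      have hnT' : Group.IsNilpotent T' := isNilpotent_of_le (le_inf hT'H le_sup_left) hn'
      have hnT : Group.IsNilpotent T := (isNilpotent_map_subtype_iff T).2 hnT'
      have s1 : Group.IsSolvable T := inferInstance
      have s2 : Group.IsSolvable (H ⧸ T) := by
        have h1 : IsPGroup q (H ⧸ T) := IsPGroup.of_card (n := k) (by rw [← hk, Subgroup.index_eq_card])
        have : Group.IsNilpotent (H ⧸ T) := h1.isNilpotent
        infer_instance
      exact Group.isSolvable_of_ker_le_range T.subtype (QuotientGroup.mk' T)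
        (by rw [QuotientGroup.ker_mk', Subgroup.range_subtype])
  · push Not at hex
    obtain ⟨a, m, hm2, hHm⟩ := Nat.exists_eq_pow_mul_and_not_dvd (n := Nat.card H)
      Nat.card_pos.ne' 2 (by norm_num)
    have hm0 : m ≠ 0 := by
      rintro rfl
      exact hm2 (dvd_zero 2)
    have hmp := Nat.eq_prime_pow_of_unique_prime_dvd (p := p) hm0 (fun {d} hd hdm => by
      by_contra hne
      have hd2 : d ≠ 2 := by
        rintro rfl
        exact hm2 hdm
      exact hex d hd hd2 hne (hHm ▸ Dvd.dvd.mul_left hdm _))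
    exact Cfsg.Agent.S0144.result 2 p a _ Nat.prime_two hp (by rw [hHm]; rw [← hmp])

/-- **Kegel's theorem** (modulo the Glauberman–Thompson theorem): if all elements outside the proper
normal subgroup `H` have `p`-th power `1`, then `H` is nilpotent. -/
theorem HP.isNilpotent_aux (hGT : GTHyp.{u}) {p : ℕ} (hp : p.Prime) :
    ∀ (n : ℕ) (G : Type u) [Group G] [Finite G], Nat.card G = n → ∀ H : Subgroup G, HP p H →
      Group.IsNilpotent H := by
  intro n
  induction n using Nat.strong_induction_on with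
  | _ n ih =>
  intro G _ _ hcard H h
  have hHn : H.Normal := h.normal
  have hsub : ∀ L : Subgroup G, L ≠ ⊤ → ¬ L ≤ H → Group.IsNilpotent ↥(H ⊓ L) := by
    intro L hL hLH
    rw [← isNilpotent_subgroupOf_iff]
    refine ih (Nat.card L) ?_ L rfl (H.subgroupOf L) ⟨inferInstance, ?_, ?_⟩
    · rw [← hcard]
      have := card_lt_card_of_lt (lt_top_iff_ne_top.2 hL)
      rwa [Subgroup.card_top] at this
    · rwa [Ne, Subgroup.subgroupOf_eq_top]
    · intro g hg
      apply Subtype.ext
      have := h.pow (g : G) (fun hc => hg (Subgroup.mem_subgroupOf.2 hc))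
      simpa using this
  have hquo : ∀ (N : Subgroup G) [N.Normal], N ≠ ⊥ → N ≤ H →
      Group.IsNilpotent ↥(H.map (QuotientGroup.mk' N)) := by
    intro N _ hN hNH
    refine ih (Nat.card (G ⧸ N)) ?_ (G ⧸ N) rfl _
      ⟨hHn.map _ (QuotientGroup.mk'_surjective N), ?_, ?_⟩
    · rw [← hcard, Subgroup.card_eq_card_quotient_mul_card_subgroup N]
      exact lt_mul_of_one_lt_right Nat.card_pos ((Subgroup.one_lt_card_iff_ne_bot N).2 hN)
    · intro hc
      apply h.ne_top
      have := congrArg (Subgroup.comap (QuotientGroup.mk' N)) hc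
      rw [Subgroup.comap_map_eq, QuotientGroup.ker_mk', Subgroup.comap_top,
        sup_eq_left.2 hNH] at this
      exact this
    · intro x hx
      obtain ⟨g, rfl⟩ := QuotientGroup.mk'_surjective N x
      rw [← map_pow, h.pow g (fun hc => hx (Subgroup.mem_map_of_mem _ hc)), map_one]
  by_contra hnil
  have hinter : ∀ (N1 N2 : Subgroup G), N1.Normal → N2.Normal → N1 ≠ ⊥ → N2 ≠ ⊥ → N1 ≤ H →
      N2 ≤ H → N1 ⊓ N2 ≠ ⊥ := by
    intro N1 N2 _ _ h1 h2 h1H h2H hbot
    apply hnil
    have n1 := hquo N1 h1 h1H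
    have n2 := hquo N2 h2 h2H
    refine isNilpotent_of_injective (((QuotientGroup.mk' N1).subgroupMap H).prod
      ((QuotientGroup.mk' N2).subgroupMap H)) ?_ inferInstance
    rw [injective_iff_map_eq_one]
    intro x hx
    rw [MonoidHom.prod_apply, Prod.mk_eq_one] at hx
    have hx1 : (x : G) ∈ N1 :=
      (QuotientGroup.eq_one_iff (x : G)).1 (congrArg Subtype.val hx.1)
    have hx2 : (x : G) ∈ N2 :=
      (QuotientGroup.eq_one_iff (x : G)).1 (congrArg Subtype.val hx.2)
    have hx3 : (x : G) ∈ N1 ⊓ N2 := ⟨hx1, hx2⟩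
    rw [hbot, Subgroup.mem_bot] at hx3
    exact Subtype.ext hx3
  exact hnil (h.isNilpotent_of_isSolvable hp (h.isSolvable hGT hp hsub hquo) hquo hinter)

theorem HP.isNilpotent (hGT : GTHyp.{u}) {p : ℕ} (hp : p.Prime) {G : Type u} [Group G] [Finite G]
    {H : Subgroup G} (h : HP p H) : Group.IsNilpotent H :=
  HP.isNilpotent_aux hGT hp _ G rfl H h

/-- The Hughes subgroup satisfies `HP` when it is proper. -/
theorem hp_hughes {p : ℕ} {G : Type*} [Group G]
    (hH : Subgroup.closure {g : G | g ^ p ≠ 1} ≠ ⊤) : HP p (Subgroup.closure {g : G | g ^ p ≠ 1}) := by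
  refine ⟨?_, hH, ?_⟩
  · refine ⟨fun n hn g => ?_⟩
    induction hn using Subgroup.closure_induction with
    | mem x hx =>
      apply Subgroup.subset_closure
      change (g * x * g⁻¹) ^ p ≠ 1
      rw [conj_pow]
      intro hc
      apply hx
      have : x ^ p = g⁻¹ * (g * x ^ p * g⁻¹) * g := by group
      rw [this, hc]; group
    | one => simp
    | mul x y _ _ hx hy =>
      have : g * (x * y) * g⁻¹ = (g * x * g⁻¹) * (g * y * g⁻¹) := by group
      rw [this]
      exact Subgroup.mul_mem _ hx hy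
    | inv x _ hx =>
      have : g * x⁻¹ * g⁻¹ = (g * x * g⁻¹)⁻¹ := by group
      rw [this]
      exact Subgroup.inv_mem _ hx
  · intro g hg
    by_contra hc
    exact hg (Subgroup.subset_closure hc)

end Cfsg.Agent.Lib.Helper74
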