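import Mathlib
import Cfsg.Prelude.Def_PLocal

set_option autoImplicit false

namespace Cfsg.Agent.Lib.Helper74

open Subgroup

universe u

theorem powerClosure_map {G G' : Type*} [Group G] [Group G'] (f : G →* G') (p n : ℕ)
    (K : Subgroup G) :
    (Cfsg.powerClosure p n K).map f = Cfsg.powerClosure p n (K.map f) := by
  unfold Cfsg.powerClosure
  rw [MonoidHom.map_closure]
  congr 1
  ext y
  constructor
  · rintro ⟨_, ⟨x, hx, rfl⟩, rfl⟩
    exact ⟨f x, ⟨x, hx, rfl⟩, by rw [map_pow]⟩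
  · rintro ⟨_, ⟨x, hx, rfl⟩, rfl⟩
    exact ⟨x ^ (p ^ n), ⟨x, hx, rfl⟩, by rw [map_pow]⟩

/-- Subgroups of regular `p`-groups are regular. -/
theorem isRegularPGroup_subgroup {G : Type*} [Group G] {p : ℕ} (hG : Cfsg.IsRegularPGroup p G)
    (M : Subgroup G) : Cfsg.IsRegularPGroup p M := by
  refine ⟨hG.1.to_subgroup M, fun a b n => ?_⟩
  obtain ⟨c, hc, h⟩ := hG.2 a b n
  have hcl : closure {(a : G), (b : G)} = (closure {a, b}).map M.subtype := by
    rw [MonoidHom.map_closure]
    congr 1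
    simp [Set.image_pair]
  rw [hcl, ← Subgroup.map_commutator, ← powerClosure_map] at hc
  obtain ⟨c', hc', rfl⟩ := hc
  exact ⟨c', hc', Subtype.ext (by simpa using h)⟩

/-- If the images of two generators commute modulo a normal subgroup, that subgroup contains
the derived subgroup. -/
theorem commutator_le_of_closure_pair {H : Type*} [Group H] (N : Subgroup H) [N.Normal] (u v : H)
    (huv : closure {u, v} = ⊤) (hw : v⁻¹ * u * v * u⁻¹ ∈ N) : commutator H ≤ N := by
  rw [← Subgroup.Normal.quotient_commutative_iff_commutator_le]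
  have hsurj : Function.Surjective (QuotientGroup.mk' N) := QuotientGroup.mk'_surjective N
  have hgen : closure {QuotientGroup.mk' N u, QuotientGroup.mk' N v} = ⊤ := by
    rw [← Set.image_pair, ← MonoidHom.map_closure, huv, Subgroup.map_top_of_surjective _ hsurj]
  have hcomm : QuotientGroup.mk' N u * QuotientGroup.mk' N v =
      QuotientGroup.mk' N v * QuotientGroup.mk' N u := by
    have h1 : QuotientGroup.mk' N (v⁻¹ * u * v * u⁻¹) = 1 := by
      rw [QuotientGroup.mk'_apply, QuotientGroup.eq_one_iff]; exact hw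
    rw [map_mul, map_mul, map_mul, map_inv, map_inv] at h1
    have h2 := mul_inv_eq_one.mp h1
    calc QuotientGroup.mk' N u * QuotientGroup.mk' N v
        = QuotientGroup.mk' N v * ((QuotientGroup.mk' N v)⁻¹ * QuotientGroup.mk' N u *
            QuotientGroup.mk' N v) := by group
      _ = QuotientGroup.mk' N v * QuotientGroup.mk' N u := by rw [h2]
  have hc : IsMulCommutative (closure {QuotientGroup.mk' N u, QuotientGroup.mk' N v}) := by
    apply isMulCommutative_closure
    rintro x (rfl | rfl) y (rfl | rfl)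
    · rfl
    · exact hcomm
    · exact hcomm.symm
    · rfl
  rw [hgen] at hc
  refine ⟨⟨fun x y => ?_⟩⟩
  have := mul_comm' (⟨x, mem_top x⟩ : (⊤ : Subgroup (H ⧸ N))) ⟨y, mem_top y⟩
  exact congrArg Subtype.val this

theorem regular_key (p : ℕ) [Fact p.Prime] (k : ℕ) (H : Type u) [Group H] [Finite H]
    (hH : IsPGroup p H)
    (ih : ∀ M : Subgroup H, M ≠ ⊤ → ∀ a b : H, a ∈ M → b ∈ M →
      (a ^ p ^ k = b ^ p ^ k ↔ (a * b⁻¹) ^ p ^ k = 1))
    (u v : H) (huv : closure {u, v} = ⊤) (hq : (v⁻¹ * u * v) ^ p ^ k = u ^ p ^ k) :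
    ∀ x ∈ commutator H, x ^ p ^ k = 1 := by
  by_cases hu : zpowers u = ⊤
  · have hv : v ∈ zpowers u := by rw [hu]; trivial
    obtain ⟨i, rfl⟩ := mem_zpowers_iff.mp hv
    have h1 : commutator H ≤ ⊥ := by
      apply commutator_le_of_closure_pair ⊥ u (u ^ i) huv
      rw [mem_bot]
      group
    intro x hx
    have := h1 hx
    rw [mem_bot] at this
    rw [this, one_pow]
  · obtain ⟨M, hM, huM⟩ := (eq_top_or_exists_le_coatom (zpowers u)).resolve_left hu
    have hnil : Group.IsNilpotent H := hH.isNilpotent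
    have htfae : Group.IsNilpotent H ↔ ∀ K : Subgroup H, IsCoatom K → K.Normal :=
      (Group.isNilpotent_of_finite_tfae (G := H)).out 0 2
    have hMn : M.Normal := htfae.mp hnil M hM
    have huM' : u ∈ M := huM (mem_zpowers u)
    let Ω : Subgroup H :=
      { carrier := {x | x ∈ M ∧ x ^ p ^ k = 1}
        mul_mem' := by
          rintro x y ⟨hx, hx1⟩ ⟨hy, hy1⟩
          refine ⟨M.mul_mem hx hy, ?_⟩
          have := (ih M hM.1 x y⁻¹ hx (M.inv_mem hy)).mp (by rw [hx1, inv_pow, hy1, inv_one])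
          rwa [inv_inv] at this
        one_mem' := ⟨M.one_mem, one_pow _⟩
        inv_mem' := by
          rintro x ⟨hx, hx1⟩
          exact ⟨M.inv_mem hx, by rw [inv_pow, hx1, inv_one]⟩ }
    have hΩmem : ∀ x, x ∈ Ω ↔ x ∈ M ∧ x ^ p ^ k = 1 := fun x => Iff.rfl
    have hΩn : Ω.Normal := by
      refine ⟨fun n hn g => ?_⟩
      rw [hΩmem] at hn ⊢
      refine ⟨hMn.conj_mem n hn.1 g, ?_⟩
      rw [conj_pow, hn.2]
      group
    have hconj : v⁻¹ * u * v ∈ M := by
      have := hMn.conj_mem u huM' v⁻¹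
      rwa [inv_inv] at this
    have hw : v⁻¹ * u * v * u⁻¹ ∈ Ω := by
      rw [hΩmem]
      exact ⟨M.mul_mem hconj (M.inv_mem huM'), (ih M hM.1 _ u hconj huM').mp hq⟩
    have hle := commutator_le_of_closure_pair Ω u v huv hw
    intro x hx
    exact ((hΩmem x).mp (hle hx)).2

theorem regular_mul_pow_of_commutator {p : ℕ} {k : ℕ} {H : Type*} [Group H]
    (hH : Cfsg.IsRegularPGroup p H) (hc : ∀ x ∈ commutator H, x ^ p ^ k = 1) (x y : H) :
    (x * y) ^ p ^ k = x ^ p ^ k * y ^ p ^ k := by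
  obtain ⟨c, hcm, h⟩ := hH.2 x y k
  have hbot : Cfsg.powerClosure p k ⁅closure ({x, y} : Set H), closure ({x, y} : Set H)⁆ ≤ ⊥ := by
    unfold Cfsg.powerClosure
    rw [closure_le]
    rintro _ ⟨z, hz, rfl⟩
    have hz' : z ∈ commutator H := Subgroup.commutator_mono le_top le_top hz
    rw [SetLike.mem_coe, mem_bot]
    exact hc z hz'
  have hc1 := hbot hcm
  rw [mem_bot] at hc1
  rw [h, hc1, mul_one]

theorem regular_pow_eq_iff_aux (p : ℕ) [Fact p.Prime] (k : ℕ) (n : ℕ) :
    ∀ (H : Type u) [Group H] [Finite H], Nat.card H = n → Cfsg.IsRegularPGroup p H →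
      ∀ a b : H, a ^ p ^ k = b ^ p ^ k ↔ (a * b⁻¹) ^ p ^ k = 1 := by
  induction n using Nat.strong_induction_on with
  | _ n ih =>
  intro H _ _ hcard hH
  have ih' : ∀ M : Subgroup H, M ≠ ⊤ → ∀ a b : H, a ∈ M → b ∈ M →
      (a ^ p ^ k = b ^ p ^ k ↔ (a * b⁻¹) ^ p ^ k = 1) := by
    intro M hM a b ha hb
    have hlt : Nat.card M < n := by
      rw [← hcard]
      by_contra hge
      exact hM (Subgroup.eq_top_of_le_card M (not_lt.mp hge))
    have := ih _ hlt M rfl (isRegularPGroup_subgroup hH M) ⟨a, ha⟩ ⟨b, hb⟩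
    simpa [Subtype.ext_iff] using this
  intro a b
  by_cases hab : closure {a, b} = ⊤
  · constructor
    · intro h
      have hq : (b⁻¹ * a * b) ^ p ^ k = a ^ p ^ k := by
        have : b⁻¹ * a * b = b⁻¹ * a * b⁻¹⁻¹ := by rw [inv_inv]
        rw [this, conj_pow, h]
        group
      have hc := regular_key p k H hH.1 ih' a b hab hq
      rw [regular_mul_pow_of_commutator hH hc, h, inv_pow, mul_inv_cancel]
    · intro h
      have hgen : closure {a * b⁻¹, b} = ⊤ := by
        rw [eq_top_iff, ← hab, closure_le]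
        rintro x (rfl | rfl)
        · have h1 : x * b⁻¹ ∈ closure {x * b⁻¹, b} := subset_closure (by simp)
          have h2 : b ∈ closure {x * b⁻¹, b} := subset_closure (by simp)
          have := mul_mem h1 h2
          simpa using this
        · exact subset_closure (by simp)
      have hq : (b⁻¹ * (a * b⁻¹) * b) ^ p ^ k = (a * b⁻¹) ^ p ^ k := by
        have : b⁻¹ * (a * b⁻¹) * b = b⁻¹ * (a * b⁻¹) * b⁻¹⁻¹ := by rw [inv_inv]
        rw [this, conj_pow, h]
        group
      have hc := regular_key p k H hH.1 ih' (a * b⁻¹) b hgen hq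
      have := regular_mul_pow_of_commutator hH hc (a * b⁻¹) b
      rw [h, one_mul, inv_mul_cancel_right] at this
      exact this
  · exact ih' _ hab a b (subset_closure (by simp)) (subset_closure (by simp))

/-- In a regular `p`-group, `a ^ p ^ k = b ^ p ^ k` iff `(a * b⁻¹) ^ p ^ k = 1`. -/
theorem regular_pow_eq_iff {G : Type*} [Group G] [Finite G] {p : ℕ} [Fact p.Prime]
    (hG : Cfsg.IsRegularPGroup p G) (a b : G) (k : ℕ) :
    a ^ p ^ k = b ^ p ^ k ↔ (a * b⁻¹) ^ p ^ k = 1 :=
  regular_pow_eq_iff_aux p k _ G rfl hG a b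

end Cfsg.Agent.Lib.Helper74
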