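import Cfsg.Agent.Lib.Helper74.Kegel

set_option autoImplicit false

namespace Cfsg.Agent.Lib.Helper74

universe u

open SemidirectProduct

/-- Powers in a semidirect product. -/
theorem semidirect_pow_left {N A : Type*} [Group N] [Group A] (φ : A →* MulAut N)
    (γ : N ⋊[φ] A) (n : ℕ) :
    (γ ^ n).left = ((List.range n).map (fun i : ℕ => (φ γ.right ^ i) γ.left)).prod ∧
      (γ ^ n).right = γ.right ^ n := by
  induction n with
  | zero => simp
  | succ n ih =>
    constructor
    · rw [pow_succ, mul_left, ih.1, ih.2, List.range_succ, List.map_append, List.prod_append, map_pow]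
      simp
    · rw [pow_succ, mul_right, ih.2, pow_succ]

/-- **Kegel**: a finite group with a splitting automorphism of prime order is nilpotent
(modulo the Glauberman–Thompson theorem). -/
theorem isNilpotent_of_splitting (hGT : GTHyp.{u}) {G : Type u} [Group G] [Finite G] (α : MulAut G)
    {p : ℕ} (hp : p.Prime) (hα : orderOf α = p)
    (hsplit : ∀ x : G, ((List.range p).map (fun i : ℕ => (α ^ i) x)).prod = 1) :
    Group.IsNilpotent G := by
  have : Fact p.Prime := ⟨hp⟩
  let A : Subgroup (MulAut G) := Subgroup.zpowers α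
  have hAcard : Nat.card A = p := by rw [Nat.card_zpowers, hα]
  have hAfin : Finite A := Nat.finite_of_card_ne_zero (by rw [hAcard]; exact hp.ne_zero)
  let φ : A →* MulAut G := A.subtype
  have hfin : Finite (G ⋊[φ] A) := Finite.of_equiv _ (equivProd (φ := φ)).symm
  let α' : A := ⟨α, Subgroup.mem_zpowers α⟩
  have hα'1 : α' ≠ 1 := by
    intro h
    have h1 : α = 1 := congrArg Subtype.val h
    rw [h1, orderOf_one] at hα
    exact hp.one_lt.ne hα
  have hApow : ∀ a : A, a ^ p = 1 := fun a => by rw [← hAcard]; exact pow_card_eq_one'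
  -- elements over `α`
  have h1 : ∀ γ : G ⋊[φ] A, γ.right = α' → γ ^ p = 1 := by
    intro γ hγ
    obtain ⟨hl, hr⟩ := semidirect_pow_left φ γ p
    ext
    · rw [hl, hγ]
      exact hsplit γ.left
    · rw [hr, hApow]
      rfl
  let H : Subgroup (G ⋊[φ] A) := (rightHom : G ⋊[φ] A →* A).ker
  have hHP : HP p H := by
    refine ⟨inferInstance, ?_, ?_⟩
    · intro hc
      have h2 : (inr α' : G ⋊[φ] A) ∈ H := by rw [hc]; trivial
      rw [MonoidHom.mem_ker, rightHom_inr] at h2
      exact hα'1 h2
    · intro γ hγ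
      have ha1 : γ.right ≠ 1 := fun h => hγ (MonoidHom.mem_ker.2 h)
      have hao : orderOf γ.right = p := orderOf_eq_prime (hApow _) ha1
      have hz : Subgroup.zpowers γ.right = ⊤ := by
        apply Subgroup.eq_top_of_card_eq
        rw [Nat.card_zpowers, hao, hAcard]
      have hmem : α' ∈ Subgroup.zpowers γ.right := by rw [hz]; trivial
      rw [← mem_powers_iff_mem_zpowers] at hmem
      obtain ⟨j, hj⟩ := hmem
      have hj' : γ.right ^ j = α' := hj
      have e1 : (γ ^ j) ^ p = 1 := h1 _ (by rw [(semidirect_pow_left φ γ j).2, hj'])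
      have e2 : (γ ^ (j + p)) ^ p = 1 :=
        h1 _ (by rw [(semidirect_pow_left φ γ (j + p)).2, pow_add, hj', hApow, mul_one])
      have hpj : ¬ p ∣ j := by
        rintro ⟨m, rfl⟩
        rw [pow_mul, hApow, one_pow] at hj'
        exact hα'1 hj'.symm
      have d1 : orderOf γ ∣ j * p := orderOf_dvd_of_pow_eq_one (by rw [pow_mul]; exact e1)
      have d2 : orderOf γ ∣ (j + p) * p := orderOf_dvd_of_pow_eq_one (by rw [pow_mul]; exact e2)
      have d3 : orderOf γ ∣ p * p := by
        have := (Nat.dvd_sub d2 d1)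
        rwa [add_mul, Nat.add_sub_cancel_left] at this
      have d4 : orderOf γ ∣ Nat.gcd (j * p) (p * p) := Nat.dvd_gcd d1 d3
      rw [Nat.gcd_mul_right, ((Nat.Prime.coprime_iff_not_dvd hp).2 hpj).symm.gcd_eq_one, one_mul] at d4
      exact orderOf_dvd_iff_pow_eq_one.1 d4
  have hnil := hHP.isNilpotent hGT hp
  exact isNilpotent_of_injective ((inl : G →* G ⋊[φ] A).codRestrict H
    (fun g => MonoidHom.mem_ker.2 (rightHom_inl g)))
    (fun x y hxy => inl_injective (congrArg Subtype.val hxy)) hnil

end Cfsg.Agent.Lib.Helper74
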